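import Cfsg.Agent.Lib.Leech.Co1TwoA.Action
import Cfsg.Agent.Lib.Co0Standard.Data

/-!
Monomial elements of `Co0` given by image lists and masks, words in them and `xiCo`, and the
certificates conjugating monomial involutions to sign changes.
-/

set_option autoImplicit false

namespace Cfsg.Agent.Lib.Co0Standard

open Cfsg
open Cfsg.Agent.Lib
open Cfsg.Agent.Lib.Leech
open Cfsg.Agent.Lib.Leech.Co1TwoA
open scoped Pointwise symmDiff

/-- The number sent to `i` by an image list. -/
def invIdx (l : List ℕ) (i : ℕ) : ℕ := (List.findIdx (fun a => a == i) l) % 24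

/-- An image list in `M24` with a code mask. -/
def okMono (l : List ℕ) (m : ℕ) : Bool :=
  Golay.inM24 l && Golay.isCodeMask m &&
    (List.range 24).all fun i => Golay.applyNum l (invIdx l i) == i

theorem okMono_perm {l : List ℕ} {m : ℕ} (h : okMono l m = true) : Golay.inM24 l = true := by
  simp only [okMono, Bool.and_eq_true] at h
  exact h.1.1

theorem okMono_code {l : List ℕ} {m : ℕ} (h : okMono l m = true) :
    Golay.IsCodeSet (Golay.ptsOf m) := by
  simp only [okMono, Bool.and_eq_true] at h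
  exact Golay.isCodeSet_of_isCodeMask h.1.2

theorem okMono_symm {l : List ℕ} {m : ℕ} (h : okMono l m = true) (i : GolayPt) :
    (Golay.toPerm l).symm i = Golay.pt ⟨invIdx l (Golay.idx i).val, Nat.mod_lt _ (by norm_num)⟩ := by
  have hv := Golay.inM24.valid (okMono_perm h)
  simp only [okMono, Bool.and_eq_true, List.all_eq_true, List.mem_range, beq_iff_eq] at h
  rw [Equiv.symm_apply_eq]
  refine Golay.ptEquiv.injective (Fin.ext ?_)
  show (Golay.idx i).val = (Golay.idx _).val
  rw [Golay.idx_toPerm hv, Golay.idx_pt]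
  exact (h.2 _ (Golay.idx i).isLt).symm

/-- The monomial element of a list and a mask. -/
noncomputable def monoL (l : List ℕ) (m : ℕ) : Co0 :=
  if h : okMono l m = true then
    monoS (Golay.toPerm l) (Golay.toPerm_mem_M24 (okMono_perm h)) (Golay.ptsOf m) (okMono_code h)
  else 1

theorem monoL_eq {l : List ℕ} {m : ℕ} (h : okMono l m = true) :
    monoL l m = monoS (Golay.toPerm l) (Golay.toPerm_mem_M24 (okMono_perm h)) (Golay.ptsOf m) (okMono_code h) :=
  dif_pos h

/-- Its effect on coordinates. -/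
def monoFun (l : List ℕ) (m : ℕ) (x : GolayPt → ℤ) : GolayPt → ℤ := fun i =>
  if m.testBit (Golay.idx i).val then
    -x (Golay.pt ⟨invIdx l (Golay.idx i).val, Nat.mod_lt _ (by norm_num)⟩)
  else x (Golay.pt ⟨invIdx l (Golay.idx i).val, Nat.mod_lt _ (by norm_num)⟩)

theorem monoL_smul {l : List ℕ} {m : ℕ} (h : okMono l m = true) (v : leechLattice) :
    ((monoL l m • v : leechLattice) : GolayPt → ℤ) = monoFun l m v := by
  rw [monoL_eq h, monoS_smul]
  funext i
  simp only [signedPerm, monoFun, Golay.mem_ptsOf, okMono_symm h]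

theorem toPerm_range : Golay.toPerm (List.range 24) = 1 := by
  rw [Golay.toPerm_eq_iff (by decide +kernel)]
  intro i
  rw [Equiv.Perm.one_apply, Golay.idx_pt]
  revert i
  decide +kernel

theorem monoS_one_eq_monoL {m : ℕ} (h : okMono (List.range 24) m = true) :
    monoS 1 (one_mem M24) (Golay.ptsOf m) (okMono_code h) = monoL (List.range 24) m := by
  rw [monoL_eq h]
  exact monoS_congr toPerm_range.symm rfl

/-- The product of two list-mask pairs. -/
def mulL (a b : List ℕ × ℕ) : List ℕ × ℕ :=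
  (Golay.compList a.1 b.1, a.2 ^^^ Golay.imageMask a.1 b.2)

theorem monoL_mul {a b : List ℕ × ℕ} (ha : okMono a.1 a.2 = true) (hb : okMono b.1 b.2 = true)
    (hab : okMono (mulL a b).1 (mulL a b).2 = true) :
    monoL a.1 a.2 * monoL b.1 b.2 = monoL (mulL a b).1 (mulL a b).2 := by
  have hva := Golay.inM24.valid (okMono_perm ha)
  rw [monoL_eq ha, monoL_eq hb, monoL_eq hab, monoS_mul]
  refine monoS_congr (Golay.toPerm_mul hva (Golay.inM24.valid (okMono_perm hb))
    (Golay.inM24.valid (okMono_perm hab))).symm ?_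
  rw [Golay.toPerm_smul_ptsOf hva]
  exact (Golay.ptsOf_xor _ _).symm

/-- The tetrad of a point number. -/
def tetN (i : ℕ) : ℕ :=
  [0, 0, 0, 1, 5, 1, 4, 4, 2, 3, 3, 2, 2, 5, 1, 3, 5, 1, 2, 4, 3, 4, 5, 0].getD i 0

theorem tetN_idx : ∀ i : GolayPt, tetN (Golay.idx i).val = (tetId i).val := by decide +kernel

/-- The coordinate `k` of the image under `xiCo` of the frame vector at `i`. -/
def xiCoord (i k : ℕ) : ℤ :=
  if tetN i == tetN k then
    if tetN k == 0 then (if k == i then -4 else 4) else (if k == i then 4 else -4)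
  else 0

theorem tetSum_vec8 (i j : GolayPt) :
    tetSum (vec8 i) j = if tetId i = tetId j then 8 else 0 := by
  rw [tetSum, Finset.sum_eq_single i]
  · simp [vec8]
  · intro k _ hk
    simp [vec8, hk]
  · simp

theorem xiMap_vec8 (i j : GolayPt) :
    xiMap (vec8 i) j = xiCoord (Golay.idx i).val (Golay.idx j).val := by
  have e : (Golay.idx j).val = (Golay.idx i).val ↔ j = i :=
    ⟨fun h => Golay.ptEquiv.injective (Fin.ext h), fun h => by rw [h]⟩
  simp only [xiMap, tetSum_vec8, xiCoord, tetN_idx, beq_iff_eq, Fin.val_inj, Fin.val_eq_zero_iff, e]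
  by_cases hij : j = i
  · subst hij
    simp only [vec8, Pi.single_eq_same, if_true]
    split_ifs <;> rfl
  · simp only [vec8, Pi.single_eq_of_ne hij, hij, if_false]
    split_ifs <;> rfl

/-- The test that `xiCo` conjugates `b` to `r`. -/
def xiStep (b r : List ℕ × ℕ) : Bool :=
  (List.range 24).all fun i => (List.range 24).all fun k =>
    (let v := xiCoord i (invIdx b.1 k); if b.2.testBit k then -v else v) ==
      (let w := xiCoord (Golay.applyNum r.1 i) k;
        if r.2.testBit (Golay.applyNum r.1 i) then -w else w)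

theorem xiStep_sound {b r : List ℕ × ℕ} (hb : okMono b.1 b.2 = true)
    (hr : okMono r.1 r.2 = true) (h : xiStep b r = true) :
    monoL b.1 b.2 * xiCo = xiCo * monoL r.1 r.2 := by
  simp only [xiStep, List.all_eq_true, List.mem_range, beq_iff_eq] at h
  refine co0_ext_pt8 fun i => Subtype.ext (funext fun j => ?_)
  have key := h _ (Golay.idx i).isLt _ (Golay.idx j).isLt
  have hs : (if r.2.testBit (Golay.idx (Golay.toPerm r.1 i)).val then -pt8 (Golay.toPerm r.1 i)
      else pt8 (Golay.toPerm r.1 i)) = monoL r.1 r.2 • pt8 i := by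
    refine Subtype.ext ?_
    rw [monoL_eq hr, monoS_smul]
    show _ = signedPerm _ _ (vec8 i)
    rw [signedPerm_vec8]
    simp only [Golay.mem_ptsOf]
    split <;> rfl
  have hR : ((xiCo • pt8 (Golay.toPerm r.1 i) : leechLattice) : GolayPt → ℤ) j =
      xiCoord (Golay.applyNum r.1 (Golay.idx i).val) (Golay.idx j).val := by
    rw [← Golay.idx_toPerm (Golay.inM24.valid (okMono_perm hr))]
    exact xiMap_vec8 _ _
  have hj : (Golay.idx (Golay.pt ⟨invIdx b.1 (Golay.idx j).val,
      Nat.mod_lt _ (by norm_num)⟩)).val = invIdx b.1 (Golay.idx j).val := by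
    rw [Golay.idx_pt]
  rw [mul_smul, monoL_smul hb, mul_smul, ← hs, xiCo_smul]
  simp only [monoFun]
  rw [show ((pt8 i : leechLattice) : GolayPt → ℤ) = vec8 i from rfl, xiMap_vec8, hj, key,
    ← Golay.idx_toPerm (Golay.inM24.valid (okMono_perm hr))]
  split
  · rw [smul_neg', NegMemClass.coe_neg, Pi.neg_apply, hR,
      Golay.idx_toPerm (Golay.inM24.valid (okMono_perm hr))]
  · rw [hR, Golay.idx_toPerm (Golay.inM24.valid (okMono_perm hr))]

/-- The test for a chain of moves: conjugate by a monomial element, then by `xiCo`. -/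
def chainOK : List ℕ × ℕ → List ((List ℕ × ℕ) × (List ℕ × ℕ) × (List ℕ × ℕ)) → ℕ → Bool
  | a, [], c => a == (List.range 24, c)
  | a, (m, b, r) :: w, c =>
    okMono m.1 m.2 && okMono b.1 b.2 && okMono r.1 r.2 && (mulL m a == mulL b m) &&
      okMono (mulL b m).1 (mulL b m).2 && xiStep b r && chainOK r w c

theorem chain_conj : ∀ (a : List ℕ × ℕ) (w : List ((List ℕ × ℕ) × (List ℕ × ℕ) × (List ℕ × ℕ)))
    (c : ℕ), okMono a.1 a.2 = true → chainOK a w c = true →
    ∃ (x : Co0) (s : Finset GolayPt) (hs : Golay.IsCodeSet s),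
      x * monoL a.1 a.2 * x⁻¹ = monoS 1 (one_mem M24) s hs
  | a, [], c, ha, h => by
    simp only [chainOK, beq_iff_eq] at h
    subst h
    exact ⟨1, Golay.ptsOf c, (okMono_code ha), by rw [monoS_one_eq_monoL ha]; group⟩
  | a, (m, b, r) :: w, c, ha, h => by
    simp only [chainOK, Bool.and_eq_true, beq_iff_eq] at h
    obtain ⟨⟨⟨⟨⟨⟨hm, hb⟩, hr⟩, he⟩, hok⟩, hx⟩, hw⟩ := h
    obtain ⟨x, s, hs, e⟩ := chain_conj r w c hr hw
    have e1 : monoL m.1 m.2 * monoL a.1 a.2 = monoL b.1 b.2 * monoL m.1 m.2 := by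
      rw [monoL_mul hm ha (he ▸ hok), monoL_mul hb hm hok, he]
    refine ⟨x * xiCo⁻¹ * monoL m.1 m.2, s, hs, ?_⟩
    have e2 : monoL r.1 r.2 = xiCo⁻¹ * monoL b.1 b.2 * xiCo := by
      rw [mul_assoc, xiStep_sound hb hr hx, inv_mul_cancel_left]
    rw [← e, e2, show monoL b.1 b.2 = monoL m.1 m.2 * monoL a.1 a.2 * (monoL m.1 m.2)⁻¹ by
      rw [e1]; group]
    group

theorem certs_ok : certs.all (fun e => okMono e.1.1 e.1.2 && chainOK e.1 e.2.1 e.2.2) = true := by
  decide +kernel

theorem cert_conj {e} (he : e ∈ certs) :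
    ∃ (x : Co0) (s : Finset GolayPt) (hs : Golay.IsCodeSet s),
      x * monoL e.1.1 e.1.2 * x⁻¹ = monoS 1 (one_mem M24) s hs := by
  have h := List.all_eq_true.1 certs_ok e he
  rw [Bool.and_eq_true] at h
  exact chain_conj _ _ _ h.1 h.2

end Cfsg.Agent.Lib.Co0Standard
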