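import Cfsg.Agent.Lib.Leech.SimpleCo1
import Cfsg.Agent.Lib.MonsterType.Cross
import Cfsg.Agent.Lib.Golay.ClassFacts
import Cfsg.Agent.Lib.Co0Standard.Mono

/-!
Every noncentral involution of `Co0` is conjugate to a sign change; the centraliser of the sign
changes commuting with a given element whose square is central.
-/

set_option autoImplicit false

namespace Cfsg.Agent.Lib.Co0Standard

open Cfsg
open Cfsg.Agent.Lib
open Cfsg.Agent.Lib.Leech
open Cfsg.Agent.Lib.Leech.Co1TwoA
open Cfsg.Agent.Lib.MonsterType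
open scoped Pointwise symmDiff

theorem crossStab_eq : crossStab = MulAction.stabilizer Co0 cross0 := by
  refine le_antisymm (fun g hg => ?_) fun g hg => ?_
  · obtain ⟨σ, hσ, w, hw, rfl⟩ := exists_mono_of_mem_crossStab hg
    exact mono_mem_stab hσ hw
  · obtain ⟨σ, hσ, w, hw, rfl⟩ := exists_mono_of_stab (MulAction.mem_stabilizer_iff.1 hg)
    exact monoCo_mem_crossStab σ hσ w hw

theorem index_crossStab : crossStab.index = 8292375 := by
  rw [crossStab_eq, MulAction.index_stabilizer, card_cross_orbit]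

/-- A 2-subgroup has a conjugate in the cross stabiliser. -/
theorem exists_conj_mem_crossStab {Q : Subgroup Co0} (hQ : IsPGroup 2 Q) :
    ∃ γ : Co0, ∀ q ∈ Q, γ * q * γ⁻¹ ∈ crossStab := by
  haveI := finite_co0
  haveI : Fact (Nat.Prime 2) := ⟨Nat.prime_two⟩
  have h : ¬ 2 ∣ Nat.card (Co0 ⧸ crossStab) := by
    rw [← Subgroup.index_eq_card, index_crossStab]; norm_num
  obtain ⟨c, hc⟩ := hQ.nonempty_fixed_point_of_prime_not_dvd_card (Co0 ⧸ crossStab) h
  induction c using QuotientGroup.induction_on with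
  | H g =>
    refine ⟨g⁻¹, fun q hq => ?_⟩
    have e : (((q * g : Co0)) : Co0 ⧸ crossStab) = (g : Co0 ⧸ crossStab) := hc ⟨q, hq⟩
    have := QuotientGroup.eq.1 e.symm
    rwa [inv_inv, mul_assoc]

theorem isPGroup_zpowers {G : Type*} [Group G] {y : G} {k : ℕ} (h : y ^ 2 ^ k = 1) :
    IsPGroup 2 (Subgroup.zpowers y) := by
  rintro ⟨_, n, rfl⟩
  refine ⟨k, Subtype.ext ?_⟩
  show (y ^ n) ^ 2 ^ k = 1
  rw [← zpow_natCast, ← zpow_mul, mul_comm, zpow_mul, zpow_natCast, h, one_zpow]

theorem exists_conj_of_pow {y : Co0} {k : ℕ} (h : y ^ 2 ^ k = 1) :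
    ∃ γ : Co0, γ * y * γ⁻¹ ∈ crossStab := by
  obtain ⟨γ, hγ⟩ := exists_conj_mem_crossStab (isPGroup_zpowers h)
  exact ⟨γ, hγ y (Subgroup.mem_zpowers y)⟩

/-! ### Monomial involutions -/

theorem monoS_eq_one {σ : Equiv.Perm GolayPt} {hσ} {s : Finset GolayPt} {hs}
    (h : monoS σ hσ s hs = 1) : σ = 1 ∧ s = ∅ :=
  monoS_inj (h.trans monoS_one.symm)

theorem sq_eq_one_iff {σ : Equiv.Perm GolayPt} {hσ : σ ∈ M24} {s : Finset GolayPt}
    {hs : Golay.IsCodeSet s} :
    monoS σ hσ s hs * monoS σ hσ s hs = 1 ↔ σ * σ = 1 ∧ σ • s = s := by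
  rw [monoS_mul]
  constructor
  · intro h
    obtain ⟨h1, h2⟩ := monoS_eq_one h
    exact ⟨h1, (symmDiff_eq_bot.1 h2).symm⟩
  · rintro ⟨h1, h2⟩
    refine Eq.trans (monoS_congr h1 ?_) monoS_one
    rw [h2]; exact symmDiff_self s

theorem orderOf_perm_two {σ : Equiv.Perm GolayPt} (h : σ * σ = 1) (h1 : σ ≠ 1) : orderOf σ = 2 :=
  orderOf_eq_prime (by rw [pow_two]; exact h) h1

/-- Invariance of a mask. -/
def invMask (r : List ℕ) (m : ℕ) : Bool :=
  (List.range 24).all fun i => m.testBit (Golay.applyNum r i) == m.testBit i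

theorem invMask_iff {r : List ℕ} (hr : Golay.validList r = true) {m : ℕ} :
    invMask r m = true ↔ Golay.toPerm r • Golay.ptsOf m = Golay.ptsOf m := by
  simp only [invMask, List.all_eq_true, List.mem_range, beq_iff_eq]
  constructor
  · intro h
    refine Golay.OctadStab.stab_of_mem_iff fun p => ?_
    rw [Golay.mem_ptsOf, Golay.mem_ptsOf, Golay.idx_toPerm hr, h _ (Golay.idx p).isLt]
  · intro h i hi
    have := Golay.OctadStab.mem_iff_of_stab h (Golay.pt ⟨i, hi⟩)
    rw [Golay.mem_ptsOf, Golay.mem_ptsOf, Golay.idx_toPerm hr, Golay.idx_pt] at this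
    exact Bool.eq_iff_iff.2 this

/-- The test for the reduction to the certified signs. -/
def redOK (e : List ℕ × List ℕ) : Bool :=
  Golay.inM24 e.1 && (e.2.all fun c => Golay.isCodeMask c) &&
    Golay.codeMasks.all fun m => !(invMask e.1 m) || certs.any fun q => q.1.1 == e.1 &&
      e.2.any fun c => m == q.1.2 ^^^ (c ^^^ Golay.imageMask e.1 c)

theorem comWords_ok : comWords.all redOK = true ∧
    comWords.map Prod.fst = [Golay.ClassData.rep2f8, Golay.ClassData.rep2f0] := by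
  decide +kernel

theorem monoL_noperm {k : Equiv.Perm GolayPt} (hk : k ∈ M24) {σ : Equiv.Perm GolayPt}
    (hσ : σ ∈ M24) {s : Finset GolayPt} (hs : Golay.IsCodeSet s) {τ : Equiv.Perm GolayPt}
    (hτ : τ ∈ M24) (e : k * σ = τ * k) :
    monoS k hk ∅ Golay.isCodeSet_empty * monoS σ hσ s hs =
      monoS τ hτ (k • s) (Golay.M24_isCodeSet hk hs) *
        monoS k hk ∅ Golay.isCodeSet_empty := by
  rw [monoS_mul, monoS_mul]
  refine monoS_congr e ?_
  rw [Finset.smul_finset_empty]
  simp [← Finset.bot_eq_empty]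

/-- A monomial involution with nontrivial permutation is conjugate to a sign change. -/
theorem exists_conj_signs_of_perm {σ : Equiv.Perm GolayPt} {hσ : σ ∈ M24} {s : Finset GolayPt}
    {hs : Golay.IsCodeSet s} (h2 : σ * σ = 1) (h1 : σ ≠ 1) (hinv : σ • s = s) :
    ∃ (x : Co0) (c : Finset GolayPt) (hc : Golay.IsCodeSet c),
      x * monoS σ hσ s hs * x⁻¹ = monoS 1 (one_mem M24) c hc := by
  obtain ⟨r, hr, k, hk, ek⟩ := Golay.Classes.classify_two hσ (orderOf_perm_two h2 h1)
  obtain ⟨cs, hcs⟩ : ∃ cs, (r, cs) ∈ comWords := by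
    have : r ∈ comWords.map Prod.fst := comWords_ok.2 ▸ hr
    obtain ⟨⟨a, cs⟩, h, rfl⟩ := List.mem_map.1 this
    exact ⟨cs, h⟩
  have hok := List.all_eq_true.1 comWords_ok.1 _ hcs
  simp only [redOK, Bool.and_eq_true, List.all_eq_true, Bool.or_eq_true, List.any_eq_true,
    beq_iff_eq, Bool.not_eq_true'] at hok
  obtain ⟨⟨hrM, hcode⟩, hred⟩ := hok
  have hv := Golay.inM24.valid hrM
  have e1 : k⁻¹ * σ = Golay.toPerm r * k⁻¹ := by rw [← ek]; group
  obtain ⟨m, hm, hms⟩ := Golay.isCodeSet_iff_mem.1 (Golay.M24_isCodeSet (inv_mem hk) hs)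
  have hmi : invMask r m = true := by
    rw [invMask_iff hv, ← hms]
    show Golay.toPerm r • k⁻¹ • s = k⁻¹ • s
    rw [smul_smul, ← e1, ← smul_smul, hinv]
  obtain ⟨q, hq, hqr, c, hc, hmc⟩ := (hred m hm).resolve_left (by simp [hmi])
  have hc' : Golay.IsCodeSet (Golay.ptsOf c) := Golay.isCodeSet_of_isCodeMask (hcode c hc)
  obtain ⟨x, d, hd, ex⟩ := cert_conj hq
  have hqok : okMono q.1.1 q.1.2 = true := by
    have := List.all_eq_true.1 certs_ok q hq
    simp only [Bool.and_eq_true] at this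
    exact this.1
  have e3 : monoS 1 (one_mem M24) (Golay.ptsOf c) hc' *
      monoS (Golay.toPerm r) (Golay.toPerm_mem_M24 hrM) (k⁻¹ • s)
        (Golay.M24_isCodeSet (inv_mem hk) hs) =
      monoL q.1.1 q.1.2 * monoS 1 (one_mem M24) (Golay.ptsOf c) hc' := by
    rw [monoL_eq hqok, monoS_mul, monoS_mul]
    refine monoS_congr (by rw [hqr]; simp) ?_
    rw [hms, hqr, one_smul, Golay.toPerm_smul_ptsOf hv, ← Golay.ptsOf_xor, ← Golay.ptsOf_xor, hmc]
    congr 1
    rw [← Nat.xor_assoc c, Nat.xor_comm c q.1.2, Nat.xor_assoc, ← Nat.xor_assoc c,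
      Nat.xor_self, Nat.zero_xor]
  refine ⟨x * monoS 1 (one_mem M24) (Golay.ptsOf c) hc' *
    monoS k⁻¹ (inv_mem hk) ∅ Golay.isCodeSet_empty, d, hd, ?_⟩
  rw [← ex]
  set n := monoS 1 (one_mem M24) (Golay.ptsOf c) hc'
  set m' := monoS k⁻¹ (inv_mem hk) ∅ Golay.isCodeSet_empty with hm'
  calc x * n * m' * monoS σ hσ s hs * (x * n * m')⁻¹
      = x * n * (m' * monoS σ hσ s hs) * (x * n * m')⁻¹ := by group
    _ = x * (n * monoS (Golay.toPerm r) (Golay.toPerm_mem_M24 hrM) (k⁻¹ • s)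
          (Golay.M24_isCodeSet (inv_mem hk) hs)) * m' * (x * n * m')⁻¹ := by
      rw [hm', monoL_noperm (inv_mem hk) hσ hs (Golay.toPerm_mem_M24 hrM) e1]; group
    _ = x * monoL q.1.1 q.1.2 * x⁻¹ := by rw [e3]; group

/-- Every noncentral involution is conjugate to a sign change of weight 8, 12 or 16. -/
theorem exists_conj_signs {β : Co0} (h2 : β * β = 1) (h1 : β ≠ 1) (hz : β ≠ negCo) :
    ∃ (γ : Co0) (c : Finset GolayPt) (hc : Golay.IsCodeSet c),
      γ * β * γ⁻¹ = monoS 1 (one_mem M24) c hc ∧ (c.card = 8 ∨ c.card = 12 ∨ c.card = 16) := by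
  obtain ⟨g, hg⟩ := exists_conj_of_pow (k := 1) (y := β) (by rw [pow_one, pow_two, h2])
  obtain ⟨σ, hσ, s, hs, e⟩ := exists_monoS hg
  have hsq : monoS σ hσ s hs * monoS σ hσ s hs = 1 := by
    rw [← e]
    calc g * β * g⁻¹ * (g * β * g⁻¹) = g * (β * β) * g⁻¹ := by group
      _ = 1 := by rw [h2]; group
  obtain ⟨hp, hinv⟩ := sq_eq_one_iff.1 hsq
  obtain ⟨x, c, hc, hx⟩ : ∃ (x : Co0) (c : Finset GolayPt) (hc : Golay.IsCodeSet c),
      x * monoS σ hσ s hs * x⁻¹ = monoS 1 (one_mem M24) c hc := by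
    by_cases hσ1 : σ = 1
    · exact ⟨1, s, hs, by subst hσ1; group⟩
    · exact exists_conj_signs_of_perm hp hσ1 hinv
  refine ⟨x * g, c, hc, by rw [← hx, ← e]; group, ?_⟩
  have key : x * g * β * (x * g)⁻¹ = monoS 1 (one_mem M24) c hc := by rw [← hx, ← e]; group
  rcases Golay.card_isCodeSet hc with h | h | h | h | h
  · refine absurd ?_ h1
    rw [monoS_congr (hτ := one_mem M24) (ht := Golay.isCodeSet_empty) rfl (Finset.card_eq_zero.1 h),
      monoS_one, mul_inv_eq_one, mul_eq_left] at key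
    exact key
  · exact Or.inl h
  · exact Or.inr (Or.inl h)
  · exact Or.inr (Or.inr h)
  · refine absurd ?_ hz
    rw [monoS_congr (hτ := one_mem M24) (ht := Golay.isCodeSet_univ) rfl
      (Finset.eq_univ_of_card c (h.trans Golay.card_golayPt.symm)), monoS_univ, mul_inv_eq_iff_eq_mul,
      ← Subgroup.mem_center_iff.1 negCo_mem_center (x * g)] at key
    exact mul_left_cancel key

/-! ### Separation -/

/-- The test for separating the orbits of an involution. -/
def sepOK (e : List ℕ × List ℕ) : Bool :=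
  Golay.inM24 e.1 && (e.2.all fun c => Golay.isCodeMask c && invMask e.1 c) &&
    (List.range 24).all fun i => (List.range 24).all fun j =>
      j == i || j == Golay.applyNum e.1 i || e.2.any fun c => c.testBit i != c.testBit j

theorem sepWords_ok : sepWords.all sepOK = true ∧
    sepWords.map Prod.fst = [Golay.ClassData.rep2f8, Golay.ClassData.rep2f0] := by
  decide +kernel

theorem separate_points : ∀ i j : GolayPt, i ≠ j →
    ∃ g ∈ Golay.genRows, ¬ (i ∈ Golay.ptsOf g ↔ j ∈ Golay.ptsOf g) := by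
  decide +kernel

/-- Invariant code sets separate the orbits of an involution. -/
theorem exists_sep {σ : Equiv.Perm GolayPt} (hσ : σ ∈ M24) (h2 : σ * σ = 1) (i j : GolayPt)
    (hji : j ≠ i) (hjs : j ≠ σ i) :
    ∃ w, Golay.IsCodeSet w ∧ σ • w = w ∧ ¬ (i ∈ w ↔ j ∈ w) := by
  by_cases h1 : σ = 1
  · obtain ⟨g, hg, hne⟩ := separate_points i j (Ne.symm hji)
    exact ⟨_, Golay.genRows_isCodeSet g hg, by rw [h1, one_smul], hne⟩
  obtain ⟨r, hr, k, hk, ek⟩ := Golay.Classes.classify_two hσ (orderOf_perm_two h2 h1)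
  obtain ⟨cs, hcs⟩ : ∃ cs, (r, cs) ∈ sepWords := by
    have : r ∈ sepWords.map Prod.fst := sepWords_ok.2 ▸ hr
    obtain ⟨⟨a, cs⟩, h, rfl⟩ := List.mem_map.1 this
    exact ⟨cs, h⟩
  have hok := List.all_eq_true.1 sepWords_ok.1 _ hcs
  simp only [sepOK, Bool.and_eq_true, List.all_eq_true, Bool.or_eq_true, List.any_eq_true,
    beq_iff_eq, bne_iff_ne, List.mem_range] at hok
  obtain ⟨⟨hrM, hcode⟩, hsep⟩ := hok
  have hv := Golay.inM24.valid hrM
  have hi : k (Golay.toPerm r (k⁻¹ i)) = σ i := by rw [← ek]; rfl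
  obtain ⟨c, hc, hne⟩ := (hsep _ (Golay.idx (k⁻¹ i)).isLt _ (Golay.idx (k⁻¹ j)).isLt).resolve_left (by
    rintro (h | h)
    · exact hji (k⁻¹.injective (Golay.ptEquiv.injective (Fin.ext h)))
    · refine hjs ?_
      rw [← Golay.idx_toPerm hv] at h
      rw [← hi, ← Golay.ptEquiv.injective (Fin.ext h)]
      simp)
  refine ⟨k • Golay.ptsOf c, Golay.M24_isCodeSet hk (Golay.isCodeSet_of_isCodeMask (hcode c hc).1),
    ?_, ?_⟩
  · rw [smul_smul, ← ek, inv_mul_cancel_right, ← smul_smul, (invMask_iff hv).1 (hcode c hc).2]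
  · rw [← Finset.inv_smul_mem_iff, ← Finset.inv_smul_mem_iff, Equiv.Perm.smul_def,
      Equiv.Perm.smul_def, Golay.mem_ptsOf, Golay.mem_ptsOf]
    exact fun h => hne (Bool.eq_iff_iff.2 h)

/-! ### The root lemma -/

theorem sq_eight : ∀ a ∈ Finset.Icc (-8 : ℤ) 8, ∀ b ∈ Finset.Icc (-8 : ℤ) 8,
    a ^ 2 + b ^ 2 = 64 → a = 0 ∨ b = 0 := by decide +kernel

theorem single_of_support_two {v : GolayPt → ℤ} {i j : GolayPt} (hn : sqNorm v = 64)
    (hs : ∀ k, k ≠ i → k ≠ j → v k = 0) :
    ∃ l, (l = i ∨ l = j) ∧ (v = vec8 l ∨ v = -vec8 l) := by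
  have one : ∀ l, (∀ k, k ≠ l → v k = 0) → v = vec8 l ∨ v = -vec8 l := by
    intro l hl
    have h : v l ^ 2 = 64 := by
      rw [sqNorm, Finset.sum_eq_single l (fun k _ hk => by rw [hl k hk]; ring) (by simp)] at hn
      exact hn
    have : v l = 8 ∨ v l = -8 := sq_eq_sq_iff_eq_or_eq_neg.1 (by rw [h]; norm_num)
    rcases this with e | e
    · exact Or.inl (funext fun k => by
        by_cases hk : k = l
        · subst hk; simp [vec8, e]
        · simp [vec8, hk, hl k hk])
    · exact Or.inr (funext fun k => by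
        by_cases hk : k = l
        · subst hk; simp [vec8, e]
        · simp [vec8, hk, hl k hk])
  by_cases hij : i = j
  · subst hij
    exact ⟨i, Or.inl rfl, one i fun k hk => hs k hk hk⟩
  have h : v i ^ 2 + v j ^ 2 = 64 := by
    rw [sqNorm, Finset.sum_eq_add i j hij (fun k _ hk => by rw [hs k hk.1 hk.2]; ring)
      (by simp) (by simp)] at hn
    exact hn
  have bi : v i ∈ Finset.Icc (-8 : ℤ) 8 := Finset.mem_Icc.2 ⟨by nlinarith, by nlinarith⟩
  have bj : v j ∈ Finset.Icc (-8 : ℤ) 8 := Finset.mem_Icc.2 ⟨by nlinarith, by nlinarith⟩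
  rcases sq_eight _ bi _ bj h with e | e
  · exact ⟨j, Or.inr rfl, one j fun k hk => if hki : k = i then hki ▸ e else hs k hki hk⟩
  · exact ⟨i, Or.inl rfl, one i fun k hk => if hkj : k = j then hkj ▸ e else hs k hk hkj⟩

/-- An element commuting with all sign changes that commute with `α` does not square into the coset
of `α` modulo the centre. -/
theorem root_lemma {α x : Co0} (hα : α ∈ crossStab) (hsq : α * α ∈ Subgroup.center Co0)
    (hnc : α ∉ Subgroup.center Co0)
    (hx : ∀ b ∈ signs, b * α = α * b → b * x = x * b) :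
    x * x ≠ α ∧ x * x ≠ negCo * α := by
  obtain ⟨σ, hσ, s, hs, rfl⟩ := exists_monoS hα
  have hp : σ * σ = 1 := by
    rw [monoS_mul] at hsq
    rcases center_cases hsq with e | e
    · exact (monoS_eq_one e).1
    · exact (monoS_inj (e.trans monoS_univ.symm)).1
  have hsupp : ∀ i k, k ≠ i → k ≠ σ i →
      ((x • pt8 i : leechLattice) : GolayPt → ℤ) k = 0 := by
    intro i k hki hks
    obtain ⟨w, hw, hinv, hne⟩ := exists_sep hσ hp i k hki hks
    have hb : monoS 1 (one_mem M24) w hw ∈ signs := mem_signs_iff.2 ⟨_, _, rfl⟩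
    have hcomm := hx _ hb (by
      rw [monoS_mul, monoS_mul]
      refine monoS_congr (by simp) ?_
      rw [one_smul, hinv, symmDiff_comm])
    have e := congrArg (fun g : Co0 => ((g • pt8 i : leechLattice) : GolayPt → ℤ) k) hcomm
    simp only [mul_smul] at e
    have hbi : monoS 1 (one_mem M24) w hw • pt8 i = if i ∈ w then -pt8 i else pt8 i := by
      refine Subtype.ext ?_
      rw [monoS_smul]
      show signedPerm 1 w (vec8 i) = _
      rw [signedPerm_vec8]
      show (if i ∈ w then _ else _) = _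
      split <;> rfl
    rw [hbi, monoS_smul] at e
    simp only [signedPerm, Equiv.Perm.one_symm, Equiv.Perm.one_apply] at e
    by_cases hi : i ∈ w
    · have hk : k ∉ w := fun hk => hne (iff_of_true hi hk)
      rw [if_neg hk, if_pos hi, smul_neg', NegMemClass.coe_neg, Pi.neg_apply] at e
      omega
    · have hk : k ∈ w := by
        by_contra hk
        exact hne (iff_of_false hi hk)
      rw [if_pos hk, if_neg hi] at e
      omega
  have hone : ∀ i, ∃ l, (l = i ∨ l = σ i) ∧ (((x • pt8 i : leechLattice) : GolayPt → ℤ) = vec8 l ∨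
      ((x • pt8 i : leechLattice) : GolayPt → ℤ) = -vec8 l) := fun i =>
    single_of_support_two (by rw [sqNorm_smul]; exact sqNorm_vec8 i) (hsupp i)
  obtain ⟨τ, hτ, w, hw, rfl⟩ := exists_mono fun i => by
    obtain ⟨l, -, h⟩ := hone i
    exact mem_stdCross_iff.2 ⟨l, h⟩
  obtain ⟨τ', hτ', t, ht, ex⟩ := exists_monoS (monoCo_mem_crossStab τ hτ w hw)
  rw [ex] at hone ⊢
  have horb : ∀ i, τ' i = i ∨ τ' i = σ i := by
    intro i
    obtain ⟨l, hl, h⟩ := hone i
    rw [monoS_smul, show ((pt8 i : leechLattice) : GolayPt → ℤ) = vec8 i from rfl,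
      signedPerm_vec8] at h
    have : τ' i = l := by
      have h' : (if τ' i ∈ t then -vec8 (τ' i) else vec8 (τ' i)) l = vec8 l l ∨
          (if τ' i ∈ t then -vec8 (τ' i) else vec8 (τ' i)) l = -vec8 l l :=
        h.imp (fun e => congrFun e l) fun e => congrFun e l
      by_contra hne
      split at h' <;> simp [vec8, Ne.symm hne] at h'
    rw [this]; exact hl
  have hσσ : ∀ i, σ (σ i) = i := fun i => by
    rw [← Equiv.Perm.mul_apply, hp, Equiv.Perm.one_apply]
  have hττ : ∀ i, τ' (τ' i) = i := by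
    intro i
    rcases horb i with e | e
    · rw [e, e]
    · rw [e]
      rcases horb (σ i) with e' | e'
      · have h : i = σ i := τ'.injective (e.trans e'.symm)
        rw [e', ← h]
      · rw [e', hσσ]
  have main : ∀ (u : Finset GolayPt) (hu : Golay.IsCodeSet u),
      monoS τ' hτ' t ht * monoS τ' hτ' t ht = monoS σ hσ u hu →
        monoS τ' hτ' t ht * monoS τ' hτ' t ht = 1 := by
    intro u hu e
    rw [monoS_mul] at e ⊢
    have hσ1 : σ = 1 := by rw [← (monoS_inj e).1]; exact Equiv.ext hττ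
    have hτ1 : τ' = 1 := Equiv.ext fun i => by
      rcases horb i with h | h
      · exact h
      · rw [h, hσ1]
    refine Eq.trans (monoS_congr (show τ' * τ' = 1 from Equiv.ext hττ) ?_) monoS_one
    rw [hτ1, one_smul, symmDiff_self]; rfl
  have key : ∀ (u : Finset GolayPt) (hu : Golay.IsCodeSet u) (d : Co0),
      d ∈ Subgroup.center Co0 → d * monoS σ hσ s hs = monoS σ hσ u hu →
        monoS τ' hτ' t ht * monoS τ' hτ' t ht ≠ monoS σ hσ u hu := by
    intro u hu d hd hde e
    refine hnc ?_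
    rw [main u hu e, ← hde] at e
    rw [eq_inv_of_mul_eq_one_right e.symm]
    exact inv_mem hd
  refine ⟨key s hs 1 (one_mem _) (one_mul _), ?_⟩
  have e : negCo * monoS σ hσ s hs =
      monoS σ hσ (Finset.univ ∆ s) (Golay.isCodeSet_univ.symmDiff hs) := by
    rw [← monoS_univ, monoS_mul]
    exact monoS_congr (by simp) (by simp)
  rw [e]
  exact key _ _ negCo negCo_mem_center e

end Cfsg.Agent.Lib.Co0Standard
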