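import Cfsg.Agent.Lib.Golay.Dodecad
import Cfsg.Agent.Lib.Golay.Simple
import Cfsg.Agent.Lib.Co0Standard.Invol

/-!
The centraliser in `Co0` of the sign change on a dodecad is monomial.
-/

set_option autoImplicit false

namespace Cfsg.Agent.Lib.Co0Standard

open Cfsg
open Cfsg.Agent.Lib
open Cfsg.Agent.Lib.Leech
open Cfsg.Agent.Lib.Leech.Co1TwoA
open Cfsg.Agent.Lib.MonsterType
open scoped Pointwise symmDiff

theorem monoS_one_smul_apply {c : Finset GolayPt} (hc : Golay.IsCodeSet c) (v : leechLattice)
    (j : GolayPt) : ((monoS 1 (one_mem M24) c hc • v : leechLattice) : GolayPt → ℤ) j =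
      if j ∈ c then -(v : GolayPt → ℤ) j else (v : GolayPt → ℤ) j := by
  rw [monoS_smul]; rfl

theorem monoS_one_smul_pt8 {c : Finset GolayPt} (hc : Golay.IsCodeSet c) {i : GolayPt}
    (hi : i ∉ c) : monoS 1 (one_mem M24) c hc • pt8 i = pt8 i := by
  refine Subtype.ext (funext fun j => ?_)
  rw [monoS_one_smul_apply]
  split <;> rename_i hj
  · rw [show ((pt8 i : leechLattice) : GolayPt → ℤ) j = 0 from
      Pi.single_eq_of_ne (fun e : j = i => hi (e ▸ hj)) _, neg_zero]
  · rfl

/-- A short code set avoiding a dodecad is empty. -/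
theorem eq_empty_of_disjoint {c s : Finset GolayPt} (hc : Golay.IsCodeSet c) (h12 : c.card = 12)
    (hs : Golay.IsCodeSet s) (hd : ∀ j ∈ c, j ∉ s) (hlt : s.card < 12) : s = ∅ := by
  rcases Golay.card_isCodeSet hs with h | h | h | h | h
  · exact Finset.card_eq_zero.1 h
  · exfalso
    have hdd : cᶜ ∈ dodecads := Golay.mem_dodecads_iff.2 ⟨hc.compl, by
      rw [Finset.card_compl, Golay.card_golayPt, h12]⟩
    have := (Golay.octad_dodecad_le (Golay.mem_octads_iff.2 ⟨hs, h⟩) hdd).1
    rw [show s ∩ cᶜ = s from Finset.inter_eq_left.2 fun j hj =>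
      Finset.mem_compl.2 fun hjc => hd j hjc hj] at this
    omega
  all_goals omega

theorem isCodeSet_parity {y : GolayPt → ℤ} (h : (fun i => (y i : ZMod 2)) ∈ golayCode) :
    Golay.IsCodeSet (support₂ fun i => (y i : ZMod 2)) := by
  show Golay.word _ ∈ golayCode
  rwa [Golay.word_support₂]

theorem mem_parity {y : GolayPt → ℤ} {j : GolayPt} :
    j ∈ support₂ (fun i => (y i : ZMod 2)) ↔ y j % 2 = 1 := by
  simp only [support₂, Finset.mem_filter, Finset.mem_univ, true_and, intCast_zmod2_ne_zero]

theorem card_parity_le (u : GolayPt → ℤ) :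
    ((support₂ fun i => (u i : ZMod 2)).card : ℤ) ≤ ∑ i, u i ^ 2 := by
  calc ((support₂ fun i => (u i : ZMod 2)).card : ℤ)
      = ∑ i ∈ support₂ (fun i => (u i : ZMod 2)), (1 : ℤ) := by simp
    _ ≤ ∑ i ∈ support₂ (fun i => (u i : ZMod 2)), u i ^ 2 := Finset.sum_le_sum fun i hi => by
        have := mem_parity.1 hi
        have : 0 < u i ^ 2 := by
          refine pow_two_pos_of_ne_zero ?_
          omega
        omega
    _ ≤ ∑ i, u i ^ 2 := Finset.sum_le_sum_of_subset_of_nonneg (Finset.subset_univ _)
        fun i _ _ => sq_nonneg _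

/-- Four times a small vector: the shape of a frame vector fixed by the sign change. -/
theorem exists_quarter {c : Finset GolayPt} (hc : Golay.IsCodeSet c) (h12 : c.card = 12)
    (v : leechLattice) (h0 : ∀ j ∈ c, (v : GolayPt → ℤ) j = 0)
    (hn : sqNorm (v : GolayPt → ℤ) = 64) :
    ∃ u : GolayPt → ℤ, (∀ j, (v : GolayPt → ℤ) j = 4 * u j) ∧ (∀ j ∈ c, u j = 0) ∧
      ∑ j, u j ^ 2 = 4 := by
  obtain ⟨m, y, hm, hy, -, hcode⟩ := exists_half v.2
  obtain ⟨j0, hj0⟩ := Finset.card_pos.1 (by omega : 0 < c.card)
  obtain rfl : m = 0 := by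
    have := hy j0; have := h0 j0 hj0; rcases hm with rfl | rfl <;> omega
  have hy0 : ∀ j ∈ c, y j = 0 := fun j hj => by have := hy j; have := h0 j hj; omega
  have hsum : ∑ j, y j ^ 2 = 16 := by
    have : sqNorm (v : GolayPt → ℤ) = 4 * ∑ j, y j ^ 2 := by
      rw [sqNorm, Finset.mul_sum]
      exact Finset.sum_congr rfl fun j _ => by rw [hy j]; ring
    omega
  have hdis : ∀ j ∈ c, j ∉ support₂ (fun i => (y i : ZMod 2)) := fun j hj h => by
    have := mem_parity.1 h; rw [hy0 j hj] at this; omega
  have hS : support₂ (fun i => (y i : ZMod 2)) = ∅ := by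
    refine eq_empty_of_disjoint hc h12 (isCodeSet_parity hcode) hdis ?_
    by_contra hge
    have hsub : support₂ (fun i => (y i : ZMod 2)) ⊆ cᶜ := fun j hj =>
      Finset.mem_compl.2 fun h => hdis j h hj
    have heq : support₂ (fun i => (y i : ZMod 2)) = cᶜ :=
      Finset.eq_of_subset_of_card_le hsub (by
        rw [Finset.card_compl, Golay.card_golayPt, h12]; omega)
    have hodd : ∀ j ∈ cᶜ, (8 : ℤ) ∣ y j ^ 2 - 1 := fun j hj => by
      rw [← heq] at hj
      obtain ⟨k, hk⟩ : ∃ k, y j = 2 * k + 1 := ⟨y j / 2, by have := mem_parity.1 hj; omega⟩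
      obtain ⟨l, hl⟩ : (2 : ℤ) ∣ k * (k + 1) := (Int.even_mul_succ_self k).two_dvd
      exact ⟨l, by rw [hk]; linear_combination 4 * hl⟩
    have h8 : (8 : ℤ) ∣ ∑ j ∈ cᶜ, (y j ^ 2 - 1) := Finset.dvd_sum hodd
    have hsplit : ∑ j ∈ cᶜ, y j ^ 2 = 16 := by
      rw [← hsum]
      exact Finset.sum_subset (Finset.subset_univ _) fun j _ hj => by
        rw [hy0 j (by simpa using hj)]; ring
    rw [Finset.sum_sub_distrib, hsplit, Finset.sum_const, Finset.card_compl, Golay.card_golayPt,
      h12] at h8
    norm_num at h8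
  have heven : ∀ j, y j % 2 = 0 := fun j => by
    have h : ¬ y j % 2 = 1 := fun h => by
      have := mem_parity (y := y) |>.2 h
      rw [hS] at this
      simp at this
    omega
  refine ⟨fun j => y j / 2, fun j => ?_, fun j hj => ?_, ?_⟩
  · show _ = 4 * (y j / 2)
    have := hy j; have := heven j; omega
  · show y j / 2 = 0; rw [hy0 j hj]; rfl
  · show ∑ j, (y j / 2) ^ 2 = 4
    have : (4 : ℤ) * ∑ j, (y j / 2) ^ 2 = 16 := by
      rw [← hsum, Finset.mul_sum]
      refine Finset.sum_congr rfl fun j _ => ?_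
      obtain ⟨k, hk⟩ : ∃ k, y j = 2 * k := ⟨y j / 2, by have := heven j; omega⟩
      rw [hk, Int.mul_ediv_cancel_left _ two_ne_zero]; ring
    omega

/-- The centraliser of the sign change on a dodecad lies in the cross stabiliser. -/
theorem centralizer_dodecad_le {c : Finset GolayPt} (hc : Golay.IsCodeSet c) (h12 : c.card = 12)
    {g : Co0} (hg : g * monoS 1 (one_mem M24) c hc = monoS 1 (one_mem M24) c hc * g) :
    g ∈ crossStab := by
  have h0 : ∀ i, i ∉ c → ∀ j ∈ c, ((g • pt8 i : leechLattice) : GolayPt → ℤ) j = 0 := by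
    intro i hi j hj
    have e := congrArg (fun x : Co0 => ((x • pt8 i : leechLattice) : GolayPt → ℤ) j) hg
    simp only [mul_smul, monoS_one_smul_pt8 hc hi, monoS_one_smul_apply, if_pos hj] at e
    omega
  choose u hu hu0 hu2 using fun i : {i : GolayPt // i ∉ c} =>
    exists_quarter hc h12 (g • pt8 i.1) (h0 i.1 i.2) (by rw [sqNorm_smul]; exact sqNorm_vec8 i.1)
  have hmod : ∀ (i i' : {i : GolayPt // i ∉ c}) (j : GolayPt), (u i j - u i' j) % 2 = 0 := by
    intro i i'
    obtain ⟨z, hz⟩ : Cong (g • pt8 i.1) (g • pt8 i'.1) :=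
      ((cong_pt8 i.1).trans (cong_pt8 i'.1).symm).smul g
    have hzj : ∀ j, (z : GolayPt → ℤ) j = 2 * (u i j - u i' j) := fun j => by
      have := congrArg (fun w : leechLattice => (w : GolayPt → ℤ) j) hz
      simp only [AddSubgroup.coe_add, Pi.add_apply] at this
      rw [hu, hu] at this
      omega
    obtain ⟨m, y, hm, hy, -, hcode⟩ := exists_half z.2
    obtain rfl : m = 0 := by
      have := hy none; have := hzj none; rcases hm with rfl | rfl <;> omega
    have hy' : ∀ j, y j = u i j - u i' j := fun j => by have := hy j; have := hzj j; omega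
    have hsub : support₂ (fun k => (y k : ZMod 2)) ⊆
        support₂ (fun k => (u i k : ZMod 2)) ∪ support₂ (fun k => (u i' k : ZMod 2)) := by
      intro j hj
      rw [Finset.mem_union, mem_parity, mem_parity]
      have := mem_parity.1 hj; have := hy' j; omega
    have hE : support₂ (fun k => (y k : ZMod 2)) = ∅ := by
      refine eq_empty_of_disjoint hc h12 (isCodeSet_parity hcode) (fun j hj h => ?_) ?_
      · have := mem_parity.1 h; rw [hy', hu0 i j hj, hu0 i' j hj] at this; omega
      · have h1 := card_parity_le (u i)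
        have h2 := card_parity_le (u i')
        have h3 := (Finset.card_le_card hsub).trans (Finset.card_union_le _ _)
        rw [hu2] at h1 h2
        omega
    intro j
    have h : ¬ y j % 2 = 1 := fun h => by
      have := mem_parity (y := y) |>.2 h
      rw [hE] at this
      simp at this
    have := hy' j
    omega
  obtain ⟨i0, hi0⟩ : ∃ i, i ∉ c := by
    by_contra h
    push Not at h
    rw [Finset.eq_univ_iff_forall.2 h, Finset.card_univ, Golay.card_golayPt] at h12
    omega
  set S := support₂ (fun k => (u ⟨i0, hi0⟩ k : ZMod 2)) with hSdef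
  have hS : ∀ i, support₂ (fun k => (u i k : ZMod 2)) = S := fun i => by
    ext j
    rw [hSdef, mem_parity, mem_parity]
    have := hmod i ⟨i0, hi0⟩ j
    omega
  rcases Finset.eq_empty_or_nonempty S with hSe | hSne
  · -- a frame vector
    set w := fun j => u ⟨i0, hi0⟩ j / 2 with hwdef
    have hev : ∀ j, u ⟨i0, hi0⟩ j = 2 * w j := fun j => by
      have h : ¬ u ⟨i0, hi0⟩ j % 2 = 1 := fun h => by
        have := (mem_parity (y := u ⟨i0, hi0⟩)).2 h
        rw [← hSdef, hSe] at this
        simp at this
      simp only [hwdef]; omega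
    have hw1 : ∑ j, w j ^ 2 = 1 := by
      have := hu2 ⟨i0, hi0⟩
      rw [show (∑ j, u ⟨i0, hi0⟩ j ^ 2) = 4 * ∑ j, w j ^ 2 by
        rw [Finset.mul_sum]; exact Finset.sum_congr rfl fun j _ => by rw [hev]; ring] at this
      omega
    obtain ⟨l, hl⟩ : ∃ l, w l ≠ 0 := by
      by_contra h
      push Not at h
      rw [Finset.sum_eq_zero fun j _ => by rw [h j]; ring] at hw1
      omega
    have hrest : ∀ j, j ≠ l → w j = 0 := by
      intro j hj
      by_contra h
      have h2 : w l ^ 2 + w j ^ 2 ≤ ∑ k, w k ^ 2 := by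
        rw [← Finset.sum_pair (Ne.symm hj) (f := fun k => w k ^ 2)]
        exact Finset.sum_le_sum_of_subset_of_nonneg (Finset.subset_univ _)
          fun k _ _ => sq_nonneg _
      have := pow_two_pos_of_ne_zero hl
      have := pow_two_pos_of_ne_zero h
      omega
    have hwl : w l = 1 ∨ w l = -1 := (_root_.sq_eq_one_iff).1 (by
      rw [Finset.sum_eq_single l (fun j _ hj => by rw [hrest j hj]; ring) (by simp)] at hw1
      exact hw1)
    have hval : g • pt8 i0 = pt8 l ∨ g • pt8 i0 = -pt8 l := by
      refine hwl.imp (fun e => ?_) fun e => ?_ <;> refine Subtype.ext (funext fun j => ?_)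
      · rw [hu ⟨i0, hi0⟩, hev]
        by_cases hj : j = l
        · subst hj; simp [pt8, vec8, e]
        · simp [pt8, vec8, hj, hrest j hj]
      · rw [hu ⟨i0, hi0⟩, hev]
        by_cases hj : j = l
        · subst hj; simp [pt8, vec8, e]
        · simp [pt8, vec8, hj, hrest j hj]
    rw [mem_crossStab_iff]
    refine ((cong_pt8 i0).symm.smul g).trans ?_
    rcases hval with e | e <;> rw [e]
    · exact cong_pt8 l
    · exact (cong_neg _).trans (cong_pt8 l)
  · -- twelve independent vectors in a space of dimension at most four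
    exfalso
    have hSd : S.card = 4 := by
      have h4 := sum_sq_zmod4 (u ⟨i0, hi0⟩)
      rw [hu2, ← hSdef] at h4
      have hle := card_parity_le (u ⟨i0, hi0⟩)
      rw [hu2, ← hSdef] at hle
      have hpos := hSne.card_pos
      have : ((S.card : ℕ) : ZMod 4) = 0 := by rw [← h4]; rfl
      rw [ZMod.natCast_eq_zero_iff] at this
      omega
    have hsupp : ∀ i, ∀ j, j ∉ S → u i j = 0 := by
      intro i j hj
      by_contra h
      have hge : (S.card : ℤ) ≤ ∑ k ∈ S, u i k ^ 2 := by
        calc (S.card : ℤ) = ∑ _k ∈ S, (1 : ℤ) := by simp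
          _ ≤ _ := Finset.sum_le_sum fun k hk => by
              rw [← hS i] at hk
              have := mem_parity.1 hk
              have : 0 < u i k ^ 2 := pow_two_pos_of_ne_zero (by omega)
              omega
      have hins : ∑ k ∈ insert j S, u i k ^ 2 ≤ ∑ k, u i k ^ 2 :=
        Finset.sum_le_sum_of_subset_of_nonneg (Finset.subset_univ _) fun k _ _ => sq_nonneg _
      rw [Finset.sum_insert hj, hu2] at hins
      have := pow_two_pos_of_ne_zero h
      omega
    have hli : LinearIndependent ℤ
        (fun (i : {i : GolayPt // i ∉ c}) (k : {k : GolayPt // k ∈ S}) => u i k.1) := by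
      rw [Fintype.linearIndependent_iff]
      intro a ha i
      have hz : g • (∑ j, a j • pt8 j.1) = 0 := by
        refine Subtype.ext (funext fun p => ?_)
        rw [smul_sum', AddSubgroup.val_finsetSum, Finset.sum_apply]
        have e : ∀ j : {i : GolayPt // i ∉ c},
            ((g • (a j • pt8 j.1) : leechLattice) : GolayPt → ℤ) p = 4 * (a j * u j p) := by
          intro j
          rw [smul_zsmul']
          show a j * _ = _
          rw [hu j]; ring
        rw [Finset.sum_congr rfl fun j _ => e j, ← Finset.mul_sum]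
        show _ = (0 : ℤ)
        by_cases hp : p ∈ S
        · have := congrFun ha ⟨p, hp⟩
          simp only [Finset.sum_apply, Pi.smul_apply, smul_eq_mul, Pi.zero_apply] at this
          rw [this, mul_zero]
        · rw [Finset.sum_eq_zero fun j _ => by rw [hsupp j p hp, mul_zero], mul_zero]
      have h1 : (∑ j, a j • pt8 j.1) = 0 :=
        MulAction.injective g (hz.trans (smul_zero' g).symm)
      have h2 := congrArg (fun v : leechLattice => (v : GolayPt → ℤ) i.1) h1
      simp only [AddSubgroup.val_finsetSum, Finset.sum_apply] at h2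
      rw [Finset.sum_eq_single i] at h2
      · simpa [pt8, vec8] using h2
      · intro j _ hj
        have : (i.1 : GolayPt) ≠ j.1 := fun e => hj (Subtype.ext e.symm)
        simp [pt8, vec8, this]
      · simp
    have := hli.fintype_card_le_finrank
    rw [Module.finrank_fintype_fun_eq_card, Fintype.card_subtype_compl, Golay.card_golayPt,
      Fintype.card_coe, show Fintype.card {k : GolayPt // k ∈ S} = 4 by
        rw [Fintype.card_coe]; exact hSd, h12] at this
    omega

/-- The order of that centraliser divides `2^12 * 95040`. -/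
theorem card_centralizer_dvd {c : Finset GolayPt} (hc : Golay.IsCodeSet c) (h12 : c.card = 12) :
    Nat.card (Subgroup.centralizer ({monoS 1 (one_mem M24) c hc} : Set Co0)) ∣ 4096 * 95040 := by
  haveI := finite_co0
  set K := Subgroup.centralizer ({monoS 1 (one_mem M24) c hc} : Set Co0) with hK
  have hle : K ≤ crossStab := fun g hg =>
    centralizer_dodecad_le hc h12 (Subgroup.mem_centralizer_singleton_iff.1 hg)
  let π : K →* M24 := permPart.comp (Subgroup.inclusion hle)
  have hker : Nat.card π.ker ∣ 4096 := by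
    rw [← card_signs, ← Subgroup.card_map_of_injective (K := π.ker) K.subtype_injective]
    refine Subgroup.card_dvd_of_le ?_
    rintro _ ⟨g, hg, rfl⟩
    exact ⟨Subgroup.inclusion hle g, hg, rfl⟩
  have hran : Nat.card π.range ∣ 95040 := by
    rw [← Golay.card_stab_dodecad (Golay.mem_dodecads_iff.2 ⟨hc, h12⟩),
      ← Subgroup.card_map_of_injective (K := π.range) M24.subtype_injective]
    refine Subgroup.card_dvd_of_le ?_
    rintro _ ⟨_, ⟨g, rfl⟩, rfl⟩
    obtain ⟨σ, hσ, w, hw, e⟩ := exists_mono_of_mem_crossStab (hle g.2)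
    have ep : π g = ⟨σ, hσ⟩ := by
      show permPart (Subgroup.inclusion hle g) = _
      rw [← permPart_monoCo σ hσ w hw]
      exact congrArg _ (Subtype.ext e)
    show ((π g : M24) : Equiv.Perm GolayPt) ∈ _
    rw [ep]
    refine Subgroup.mem_inf.2 ⟨hσ, MulAction.mem_stabilizer_iff.2 ?_⟩
    have hcomm : (g : Co0) * monoS 1 (one_mem M24) c hc = monoS 1 (one_mem M24) c hc * g :=
      Subgroup.mem_centralizer_singleton_iff.1 g.2
    obtain ⟨σ', hσ', s, hs, e'⟩ := exists_monoS (hle g.2)
    have : σ = σ' := by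
      have h := e.symm.trans e'
      exact (monoCo_injective h).1
    subst this
    rw [e', monoS_mul, monoS_mul] at hcomm
    have := (monoS_inj hcomm).2
    rw [one_smul, symmDiff_comm c s] at this
    exact symmDiff_right_injective s this
  have h := Subgroup.card_eq_card_quotient_mul_card_subgroup π.ker
  rw [Nat.card_congr (QuotientGroup.quotientKerEquivRange π).toEquiv, mul_comm] at h
  rw [h]
  exact Nat.mul_dvd_mul hker hran

end Cfsg.Agent.Lib.Co0Standard
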