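import Cfsg.Agent.Lib.Co0Standard.Bound

/-!
No element of `Co0` has eighth power `-1`; conjugacy of sign changes; an element whose eighth
power is a sign change of weight 16; a 2-group of order `2^19` commuting with two octad sign
changes.
-/

set_option autoImplicit false

namespace Cfsg.Agent.Lib.Co0Standard

open Cfsg
open Cfsg.Agent.Lib
open Cfsg.Agent.Lib.Leech
open Cfsg.Agent.Lib.Leech.Co1TwoA
open Cfsg.Agent.Lib.MonsterType
open scoped Pointwise symmDiff

theorem sign_eq_one {σ : Equiv.Perm GolayPt} (hσ : σ ∈ M24) : Equiv.Perm.sign σ = 1 := by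
  haveI := Golay.isSimpleGroup_M24
  let f : M24 →* ℤˣ := Equiv.Perm.sign.comp M24.subtype
  rcases f.normal_ker.eq_bot_or_eq_top with h | h
  · exfalso
    have := Nat.card_le_card_of_injective f ((MonoidHom.ker_eq_bot_iff f).1 h)
    rw [Golay.card_M24, Nat.card_eq_fintype_card, Fintype.card_units_int] at this
    omega
  · have : (⟨σ, hσ⟩ : M24) ∈ f.ker := by rw [h]; trivial
    exact this

/-- A permutation of order dividing 8 in `M24` has a fourth power fixing a point. -/
theorem exists_fix_pow_four {σ : Equiv.Perm GolayPt} (hσ : σ ∈ M24) (h8 : σ ^ 8 = 1) :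
    ∃ i, (σ ^ 4) i = i := by
  classical
  by_contra hno
  push Not at hno
  have hall : ∀ n ∈ σ.cycleType, n = 8 := by
    intro n hn
    have hd : n ∣ 8 := (Equiv.Perm.dvd_of_mem_cycleType hn).trans (orderOf_dvd_of_pow_eq_one h8)
    by_contra hne
    have h4 : n ∣ 4 := by
      rcases (Nat.dvd_prime_pow Nat.prime_two (m := 3)).1 (by norm_num; exact hd) with ⟨k, hk, rfl⟩
      interval_cases k <;> first | (norm_num; done) | exact absurd (by norm_num) hne
    rw [Equiv.Perm.cycleType_def, Multiset.mem_map] at hn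
    obtain ⟨c, hc, rfl⟩ := hn
    replace hc : c ∈ σ.cycleFactorsFinset := hc
    have hcyc := (Equiv.Perm.mem_cycleFactorsFinset_iff.1 hc).1
    obtain ⟨a, ha⟩ : c.support.Nonempty :=
      Finset.card_pos.1 (by have := hcyc.two_le_card_support; omega)
    refine hno a ?_
    rw [← Equiv.Perm.cycleOf_pow_apply_self, ← Equiv.Perm.cycle_is_cycleOf ha hc,
      orderOf_dvd_iff_pow_eq_one.1 (hcyc.orderOf.symm ▸ h4)]
    rfl
  have hsupp : σ.support = Finset.univ := by
    ext i
    simp only [Equiv.Perm.mem_support, Finset.mem_univ, iff_true]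
    intro e
    exact hno i (Equiv.Perm.pow_apply_eq_self_of_apply_eq_self e 4)
  have hrep : σ.cycleType = Multiset.replicate (Multiset.card σ.cycleType) 8 :=
    Multiset.eq_replicate.2 ⟨rfl, hall⟩
  have hsum := σ.sum_cycleType
  rw [hsupp, Finset.card_univ, Golay.card_golayPt, hrep, Multiset.sum_replicate, smul_eq_mul] at hsum
  have h3 : Multiset.card σ.cycleType = 3 := by omega
  have hs := sign_eq_one hσ
  rw [Equiv.Perm.sign_of_cycleType, hrep, Multiset.sum_replicate, Multiset.card_replicate, h3,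
    smul_eq_mul] at hs
  exact absurd hs (by decide)

theorem monoS_pow (σ : Equiv.Perm GolayPt) (hσ : σ ∈ M24) (s : Finset GolayPt)
    (hs : Golay.IsCodeSet s) : ∀ n : ℕ, ∃ t, ∃ ht : Golay.IsCodeSet t,
      monoS σ hσ s hs ^ n = monoS (σ ^ n) (pow_mem hσ n) t ht
  | 0 => ⟨∅, Golay.isCodeSet_empty, by rw [pow_zero]; exact monoS_one.symm⟩
  | n + 1 => by
    obtain ⟨t, ht, e⟩ := monoS_pow σ hσ s hs n
    refine ⟨t ∆ ((σ ^ n) • s), ht.symmDiff (Golay.M24_isCodeSet (pow_mem hσ n) hs), ?_⟩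
    rw [pow_succ, e, monoS_mul]
    exact monoS_congr (pow_succ σ n).symm rfl

theorem monoS_smul_pt8 {σ : Equiv.Perm GolayPt} (hσ : σ ∈ M24) {s : Finset GolayPt}
    (hs : Golay.IsCodeSet s) (i : GolayPt) :
    monoS σ hσ s hs • pt8 i = if σ i ∈ s then -pt8 (σ i) else pt8 (σ i) := by
  refine Subtype.ext ?_
  rw [monoS_smul]
  show signedPerm σ s (vec8 i) = _
  rw [signedPerm_vec8]
  split <;> rfl

/-- No element has eighth power `-1`. -/
theorem pow_eight_ne (y : Co0) : y ^ 8 ≠ negCo := by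
  intro h
  have h16 : y ^ 2 ^ 4 = 1 := by
    rw [show (2 : ℕ) ^ 4 = 8 * 2 from rfl, pow_mul, h, pow_two, negCo_sq]
  obtain ⟨γ, hγ⟩ := exists_conj_of_pow h16
  obtain ⟨σ, hσ, s, hs, e⟩ := exists_monoS hγ
  have h8 : monoS σ hσ s hs ^ 8 = negCo := by
    rw [← e, conj_pow, h, Subgroup.mem_center_iff.1 negCo_mem_center γ, mul_inv_cancel_right]
  obtain ⟨t, ht, e8⟩ := monoS_pow σ hσ s hs 8
  have hσ8 : σ ^ 8 = 1 := (monoS_inj (e8.symm.trans (h8.trans monoS_univ.symm))).1
  obtain ⟨i, hi⟩ := exists_fix_pow_four hσ hσ8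
  obtain ⟨u, hu, e4⟩ := monoS_pow σ hσ s hs 4
  have h := congrArg (fun g : Co0 => g • pt8 i) h8
  rw [show (8 : ℕ) = 4 + 4 from rfl, pow_add, e4] at h
  simp only [mul_smul, negCo_smul, monoS_smul_pt8, hi] at h
  have hne : pt8 i ≠ -pt8 i := fun e => by
    have := congrArg (fun v : leechLattice => (v : GolayPt → ℤ) i) e
    simp [pt8, vec8] at this
  by_cases hiu : i ∈ u
  · simp only [if_pos hiu, smul_neg', monoS_smul_pt8, hi, neg_neg] at h
    exact hne h
  · simp only [if_neg hiu, monoS_smul_pt8, hi] at h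
    exact hne h

/-! ### Conjugacy of sign changes -/

theorem exists_conj_smul {k : Equiv.Perm GolayPt} (hk : k ∈ M24) {s t : Finset GolayPt}
    (hs : Golay.IsCodeSet s) (ht : Golay.IsCodeSet t) (e : k • s = t) :
    ∃ x : Co0, x * monoS 1 (one_mem M24) s hs * x⁻¹ = monoS 1 (one_mem M24) t ht := by
  refine ⟨monoS k hk ∅ Golay.isCodeSet_empty, ?_⟩
  rw [monoL_noperm hk (one_mem M24) hs (one_mem M24) (by simp), mul_inv_cancel_right]
  exact monoS_congr rfl e

theorem exists_conj_weight {s t : Finset GolayPt} (hs : Golay.IsCodeSet s)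
    (ht : Golay.IsCodeSet t)
    (h : (s.card = 8 ∧ t.card = 8) ∨ (s.card = 12 ∧ t.card = 12) ∨ (s.card = 16 ∧ t.card = 16)) :
    ∃ x : Co0, x * monoS 1 (one_mem M24) s hs * x⁻¹ = monoS 1 (one_mem M24) t ht := by
  have h8 : ∀ u : Finset GolayPt, Golay.IsCodeSet u → u.card = 16 → uᶜ ∈ octads := fun u hu hc =>
    Golay.mem_octads_iff.2 ⟨hu.compl, by rw [Finset.card_compl, Golay.card_golayPt, hc]⟩
  rcases h with ⟨a, b⟩ | ⟨a, b⟩ | ⟨a, b⟩
  · obtain ⟨k, hk, e⟩ := Golay.octads_transitive (Golay.mem_octads_iff.2 ⟨hs, a⟩)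
      (Golay.mem_octads_iff.2 ⟨ht, b⟩)
    exact exists_conj_smul hk hs ht e
  · obtain ⟨k, hk, e⟩ := Golay.dodecads_transitive (Golay.mem_dodecads_iff.2 ⟨hs, a⟩)
      (Golay.mem_dodecads_iff.2 ⟨ht, b⟩)
    exact exists_conj_smul hk hs ht e
  · obtain ⟨k, hk, e⟩ := Golay.octads_transitive (h8 s hs a) (h8 t ht b)
    refine exists_conj_smul hk hs ht ?_
    rw [Finset.ext_iff] at e ⊢
    intro p
    have := e p
    rw [← Finset.inv_smul_mem_iff, Finset.mem_compl, Finset.mem_compl] at this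
    rw [← Finset.inv_smul_mem_iff]
    exact not_iff_not.1 this

/-! ### An element of order 16 -/

/-- Repeated squaring. -/
def sqL (a : List ℕ × ℕ) : List ℕ × ℕ := mulL a a

theorem sixteen_data : okMono xPerm xMask = true ∧
    okMono (sqL (xPerm, xMask)).1 (sqL (xPerm, xMask)).2 = true ∧
    okMono (sqL (sqL (xPerm, xMask))).1 (sqL (sqL (xPerm, xMask))).2 = true ∧
    okMono (List.range 24) c16 = true ∧
    sqL (sqL (sqL (xPerm, xMask))) = (List.range 24, c16) ∧ Golay.popCount c16 = 16 := by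
  decide +kernel

theorem exists_pow_eight_weight16 : ∃ (x : Co0) (s : Finset GolayPt) (hs : Golay.IsCodeSet s),
    s.card = 16 ∧ x ^ 8 = monoS 1 (one_mem M24) s hs := by
  obtain ⟨h1, h2, h3, h4, h5, h6⟩ := sixteen_data
  refine ⟨monoL xPerm xMask, _, okMono_code h4, by rw [Golay.card_ptsOf, h6], ?_⟩
  have e2 := monoL_mul (a := (xPerm, xMask)) (b := (xPerm, xMask)) h1 h1 h2
  have e4 := monoL_mul h2 h2 h3
  have e8 := monoL_mul h3 h3 (by
    show okMono (sqL (sqL (sqL (xPerm, xMask)))).1 (sqL (sqL (sqL (xPerm, xMask)))).2 = true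
    rw [h5]; exact h4)
  rw [monoS_one_eq_monoL h4, show (8 : ℕ) = 2 * 2 * 2 from rfl, pow_mul, pow_mul, pow_two, pow_two,
    pow_two]
  change monoL xPerm xMask * monoL xPerm xMask = _ at e2
  change monoL (sqL (xPerm, xMask)).1 (sqL (xPerm, xMask)).2 *
    monoL (sqL (xPerm, xMask)).1 (sqL (xPerm, xMask)).2 =
    monoL (sqL (sqL (xPerm, xMask))).1 (sqL (sqL (xPerm, xMask))).2 at e4
  rw [e2]
  change monoL (sqL (xPerm, xMask)).1 (sqL (xPerm, xMask)).2 *
    monoL (sqL (xPerm, xMask)).1 (sqL (xPerm, xMask)).2 *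
    (monoL (sqL (xPerm, xMask)).1 (sqL (xPerm, xMask)).2 *
      monoL (sqL (xPerm, xMask)).1 (sqL (xPerm, xMask)).2) = _
  rw [e4, e8]
  show monoL (sqL (sqL (sqL (xPerm, xMask)))).1 (sqL (sqL (sqL (xPerm, xMask)))).2 = _
  rw [h5]

/-! ### Two octads, two dodecads -/

theorem pair_data : (okMono (List.range 24) octA && okMono (List.range 24) octB &&
    okMono (List.range 24) dodA && okMono (List.range 24) dodB &&
    Golay.popCount octA == 8 && Golay.popCount octB == 8 &&
    Golay.popCount (octA ^^^ octB) == 8 && Golay.popCount dodA == 12 &&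
    Golay.popCount dodB == 12 && Golay.popCount (dodA ^^^ dodB) == 16) = true := by
  decide +kernel

theorem exists_octad_pair_data :
    (Golay.IsCodeSet (Golay.ptsOf octA) ∧ (Golay.ptsOf octA).card = 8) ∧
    (Golay.IsCodeSet (Golay.ptsOf octB) ∧ (Golay.ptsOf octB).card = 8) ∧
    (Golay.ptsOf octA ∆ Golay.ptsOf octB).card = 8 := by
  have h := pair_data
  simp only [Bool.and_eq_true, beq_iff_eq] at h
  obtain ⟨⟨⟨⟨⟨⟨⟨⟨⟨h1, h2⟩, -⟩, -⟩, h5⟩, h6⟩, h7⟩, -⟩, -⟩, -⟩ := h
  exact ⟨⟨okMono_code h1, by rw [Golay.card_ptsOf, h5]⟩,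
    ⟨okMono_code h2, by rw [Golay.card_ptsOf, h6]⟩, by rw [← Golay.ptsOf_xor, Golay.card_ptsOf, h7]⟩

theorem exists_dodecad_pair : ∃ (s t : Finset GolayPt), Golay.IsCodeSet s ∧ Golay.IsCodeSet t ∧
    s.card = 12 ∧ t.card = 12 ∧ (s ∆ t).card = 16 := by
  have h := pair_data
  simp only [Bool.and_eq_true, beq_iff_eq] at h
  obtain ⟨⟨⟨⟨⟨⟨⟨⟨⟨-, -⟩, h3⟩, h4⟩, -⟩, -⟩, -⟩, h8⟩, h9⟩, h10⟩ := h
  exact ⟨_, _, okMono_code h3, okMono_code h4, by rw [Golay.card_ptsOf, h8],
    by rw [Golay.card_ptsOf, h9], by rw [← Golay.ptsOf_xor, Golay.card_ptsOf, h10]⟩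

theorem pairList_ok : (pairList.length == 128 && pairGens.length == 5 && pairPar.length == 128 &&
    pairList.getD 0 [] == List.range 24 &&
    (pairList.all fun l => Golay.inM24 l && invMask l octA && invMask l octB) &&
    (pairGens.all fun l => Golay.inM24 l) &&
    ((List.range 128).all fun i => i == 0 ||
      ((pairPar.getD i (0, 0)).1 < i && (pairPar.getD i (0, 0)).2 < 5 &&
        pairList.getD i [] == Golay.compList (pairGens.getD (pairPar.getD i (0, 0)).2 [])
          (pairList.getD (pairPar.getD i (0, 0)).1 []))) &&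
    ((List.range 5).all fun k => (List.range 128).all fun i =>
      (pairTab.getD k []).getD i 0 < 128 &&
        Golay.compList (pairGens.getD k []) (pairList.getD i []) ==
          pairList.getD ((pairTab.getD k []).getD i 0) []) &&
    decide (pairList.map Golay.Classes.pack).Nodup) = true := by
  decide +kernel

theorem pairList_lengths : (pairList.all fun l => l.length == 24) = true := by decide +kernel

theorem exists_pairGroup : ∃ H : Subgroup M24, Nat.card H = 128 ∧
    ∀ σ ∈ H, (σ : Equiv.Perm GolayPt) • Golay.ptsOf octA = Golay.ptsOf octA ∧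
      (σ : Equiv.Perm GolayPt) • Golay.ptsOf octB = Golay.ptsOf octB := by
  have h := pairList_ok
  simp only [Bool.and_eq_true, beq_iff_eq, List.all_eq_true, decide_eq_true_eq, List.mem_range,
    Bool.or_eq_true] at h
  obtain ⟨⟨⟨⟨⟨⟨⟨⟨hlen, hglen⟩, -⟩, h0⟩, hmem⟩, hgen⟩, hpar⟩, htab⟩, hnd⟩ := h
  have hget : ∀ i, i < 128 → pairList.getD i [] ∈ pairList := fun i hi => by
    rw [List.getD_eq_getElem _ _ (by omega)]; exact List.getElem_mem _
  have hgget : ∀ k, k < 5 → pairGens.getD k [] ∈ pairGens := fun k hk => by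
    rw [List.getD_eq_getElem _ _ (by omega)]; exact List.getElem_mem _
  have len : ∀ i : Fin 128, (pairList.getD i.1 []).length = 24 := fun i =>
    beq_iff_eq.1 (List.all_eq_true.1 pairList_lengths _ (hget i i.2))
  let el : Fin 128 → M24 := fun i =>
    ⟨Golay.toPerm (pairList.getD i []), Golay.toPerm_mem_M24 (hmem _ (hget i i.2)).1.1⟩
  let gs : Fin 5 → M24 := fun k =>
    ⟨Golay.toPerm (pairGens.getD k []), Golay.toPerm_mem_M24 (hgen _ (hgget k k.2))⟩
  have hmul : ∀ (k : Fin 5) (i : Fin 128),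
      gs k * el i = el ⟨(pairTab.getD k []).getD i 0, (htab k k.2 i i.2).1⟩ := by
    intro k i
    refine Subtype.ext ?_
    have e := (htab k k.2 i i.2).2
    show Golay.toPerm _ * Golay.toPerm _ = Golay.toPerm _
    rw [← Golay.toPerm_mul (Golay.inM24.valid (hgen _ (hgget k k.2)))
      (Golay.inM24.valid (hmem _ (hget i i.2)).1.1)
      (e.symm ▸ Golay.inM24.valid (hmem _ (hget _ (htab k k.2 i i.2).1)).1.1)]
    exact congrArg Golay.toPerm e
  have hone : el 0 = 1 := Subtype.ext (by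
    show Golay.toPerm (pairList.getD 0 []) = 1
    rw [h0, toPerm_range])
  set H := Subgroup.closure (Set.range gs)
  have hH : ∀ σ ∈ H, ∃ i, el i = σ := by
    intro σ hσ
    rw [← Subgroup.mem_toSubmonoid, Subgroup.closure_toSubmonoid_of_finite] at hσ
    induction hσ using Submonoid.closure_induction_left with
    | one => exact ⟨0, hone⟩
    | mul_left x hx y _ ih =>
      obtain ⟨i, rfl⟩ := ih
      obtain ⟨k, rfl⟩ := hx
      exact ⟨_, (hmul k i).symm⟩
  have hall : ∀ n : ℕ, ∀ hn : n < 128, el ⟨n, hn⟩ ∈ H := by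
    intro n
    induction n using Nat.strong_induction_on with
    | _ n ih =>
      intro hn
      rcases hpar n hn with e | ⟨⟨hlt, hk⟩, e⟩
      · subst e
        exact hone.symm ▸ one_mem H
      · have : el ⟨n, hn⟩ = gs ⟨_, hk⟩ * el ⟨_, hlt.trans hn⟩ := Subtype.ext (by
          show Golay.toPerm _ = Golay.toPerm _ * Golay.toPerm _
          rw [← Golay.toPerm_mul (Golay.inM24.valid (hgen _ (hgget _ hk)))
            (Golay.inM24.valid (hmem _ (hget _ (hlt.trans hn))).1.1)
            (e ▸ Golay.inM24.valid (hmem _ (hget n hn)).1.1)]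
          exact congrArg Golay.toPerm e)
        rw [this]
        exact mul_mem (Subgroup.subset_closure ⟨_, rfl⟩) (ih _ hlt _)
  refine ⟨H, ?_, fun σ hσ => ?_⟩
  · have hb : Function.Bijective fun i : Fin 128 => (⟨el i, hall i.1 i.2⟩ : H) := by
      refine ⟨fun i j e => ?_, fun σ => ?_⟩
      · have e' : Golay.toPerm (pairList.getD i.1 []) = Golay.toPerm (pairList.getD j.1 []) :=
          congrArg Subtype.val (Subtype.ext_iff.1 e)
        have hi : i.1 < pairList.length := by omega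
        have hj : j.1 < pairList.length := by omega
        refine Fin.ext ((hnd.getElem_inj_iff (hi := by simpa) (hj := by simpa)).1 ?_)
        simp only [List.getElem_map]
        rw [← List.getD_eq_getElem _ [] hi, ← List.getD_eq_getElem _ [] hj]
        refine Golay.Classes.pack_congr (len i) (len j) fun p hp => ?_
        have hidx : ((Golay.idx (Golay.pt ⟨p, hp⟩)).val) = p := by rw [Golay.idx_pt]
        rw [← hidx, ← Golay.idx_toPerm (Golay.inM24.valid (hmem _ (hget i i.2)).1.1),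
          ← Golay.idx_toPerm (Golay.inM24.valid (hmem _ (hget j j.2)).1.1), e']
      · obtain ⟨i, hi⟩ := hH σ.1 σ.2
        exact ⟨i, Subtype.ext hi⟩
    rw [← Nat.card_eq_of_bijective _ hb, Nat.card_fin]
  · obtain ⟨i, rfl⟩ := hH σ hσ
    exact ⟨(invMask_iff (Golay.inM24.valid (hmem _ (hget i i.2)).1.1)).1 (hmem _ (hget i i.2)).1.2,
      (invMask_iff (Golay.inM24.valid (hmem _ (hget i i.2)).1.1)).1 (hmem _ (hget i i.2)).2⟩

end Cfsg.Agent.Lib.Co0Standard
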