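import Cfsg.Agent.Lib.Leech.RigidCo1
import Cfsg.Agent.Lib.ZStar.Final
import Cfsg.Agent.Lib.Co0Standard.Facts
import Cfsg.Prelude.Def_Local

/-!
A standard subgroup isomorphic to `Co0` whose centraliser has cyclic Sylow 2-subgroups is normal:
the central involution is isolated.
-/

set_option autoImplicit false

namespace Cfsg.Agent.Lib.Co0Standard

open Cfsg
open Cfsg.Agent.Lib
open Cfsg.Agent.Lib.Leech
open Cfsg.Agent.Lib.Leech.Co1TwoA
open Cfsg.Agent.Lib.MonsterType
open scoped Pointwise symmDiff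

/-- An automorphism of `Co0` is inner when `Co0` is perfect. -/
theorem exists_conj_aut (hp : commutator Co0 = ⊤) (α : MulAut Co0) :
    ∃ g : Co0, ∀ x, α x = g * x * g⁻¹ := by
  have hmap : (Subgroup.center Co0).map (α : Co0 →* Co0) = Subgroup.center Co0 :=
    Subgroup.characteristic_iff_map_eq.1 inferInstance α
  obtain ⟨gbar, hg⟩ := conj_quot (QuotientGroup.congr _ _ α hmap)
  obtain ⟨g, rfl⟩ := QuotientGroup.mk_surjective gbar
  refine ⟨g, fun x => ?_⟩
  have hc : ∀ y, (g * y * g⁻¹)⁻¹ * α y ∈ Subgroup.center Co0 := fun y => by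
    refine QuotientGroup.eq.1 ?_
    have := DFunLike.congr_fun hg ((y : Co0) : Co0 ⧸ Subgroup.center Co0)
    rw [MulAut.conj_apply] at this
    exact (this.trans (by rfl)).symm
  let χ : Co0 →* Subgroup.center Co0 :=
    { toFun := fun y => ⟨_, hc y⟩
      map_one' := Subtype.ext (by simp)
      map_mul' := fun a b => Subtype.ext (by
        show (g * (a * b) * g⁻¹)⁻¹ * α (a * b) =
          (g * a * g⁻¹)⁻¹ * α a * ((g * b * g⁻¹)⁻¹ * α b)
        rw [map_mul]
        have h := Subgroup.mem_center_iff.1 (hc a) (g * b * g⁻¹)⁻¹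
        calc (g * (a * b) * g⁻¹)⁻¹ * (α a * α b)
            = (g * b * g⁻¹)⁻¹ * ((g * a * g⁻¹)⁻¹ * α a) * α b := by group
          _ = _ := by rw [h, mul_assoc]) }
  have hker : commutator Co0 ≤ χ.ker := by
    rw [_root_.commutator_def, Subgroup.commutator_le]
    intro a _ b _
    rw [MonoidHom.mem_ker, map_commutatorElement, commutatorElement_eq_one_iff_mul_comm]
    exact Subtype.ext (Subgroup.mem_center_iff.1 (χ b).2 _)
  have h1 : (g * x * g⁻¹)⁻¹ * α x = 1 :=
    congrArg Subtype.val (MonoidHom.mem_ker.1 (hker (hp.symm ▸ Subgroup.mem_top x)))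
  exact (inv_mul_eq_one.1 h1).symm

/-- A cyclic group has at most one involution. -/
theorem eq_of_sq_of_cyclic {H : Type*} [Group H] [Finite H] [IsCyclic H] {u v : H} (hu : u * u = 1)
    (hv : v * v = 1) (hu1 : u ≠ 1) (hv1 : v ≠ 1) : u = v := by
  classical
  haveI := Fintype.ofFinite H
  by_contra hne
  have h := IsCyclic.card_pow_eq_one_le (α := H) (n := 2) (by norm_num)
  have hsub : ({1, u, v} : Finset H) ⊆ Finset.univ.filter fun a => a ^ 2 = 1 := by
    intro a ha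
    simp only [Finset.mem_insert, Finset.mem_singleton] at ha
    rcases ha with rfl | rfl | rfl <;> simp [pow_two, hu, hv]
  have h3 : ({1, u, v} : Finset H).card = 3 := by
    rw [Finset.card_insert_of_notMem (by simp [Ne.symm hu1, Ne.symm hv1]), Finset.card_pair hne]
  have := Finset.card_le_card hsub
  omega

/-- The standing hypotheses. -/
structure Setup (G : Type*) [Group G] where
  /-- The subgroup. -/
  A : Subgroup G
  std : IsStandardSubgroup A
  /-- The embedding. -/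
  f : Co0 →* G
  inj : Function.Injective f
  range_eq : f.range = A
  cyc : ∀ R : Sylow 2 ↥(Subgroup.centralizer (A : Set G)),
    IsCyclic ↥(R : Subgroup ↥(Subgroup.centralizer (A : Set G)))

namespace Setup

variable {G : Type*} [Group G] [Finite G] (S : Setup G)

/-- The centraliser. -/
abbrev C : Subgroup G := Subgroup.centralizer (S.A : Set G)

/-- The central involution. -/
def z : G := S.f negCo

theorem mem_A (α : Co0) : S.f α ∈ S.A := S.range_eq ▸ ⟨α, rfl⟩

theorem exists_eq {a : G} (ha : a ∈ S.A) : ∃ α, S.f α = a := by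
  rw [← S.range_eq] at ha; exact ha

theorem comm_C {c : G} (hc : c ∈ S.C) (α : Co0) : S.f α * c = c * S.f α :=
  Subgroup.mem_centralizer_iff.1 hc _ (S.mem_A α)

theorem f_mem_C_iff {α : Co0} : S.f α ∈ S.C ↔ α = 1 ∨ α = negCo := by
  constructor
  · intro h
    refine center_cases (Subgroup.mem_center_iff.2 fun β => S.inj ?_)
    rw [map_mul, map_mul]
    exact S.comm_C h β
  · intro h
    rw [Subgroup.mem_centralizer_iff]
    intro a ha
    obtain ⟨β, rfl⟩ := S.exists_eq ha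
    rcases h with rfl | rfl
    · simp
    · rw [← map_mul, ← map_mul, Subgroup.mem_center_iff.1 negCo_mem_center β]

theorem z_mem_C : S.z ∈ S.C := S.f_mem_C_iff.2 (Or.inr rfl)

theorem z_sq : S.z * S.z = 1 := by rw [z, ← map_mul, negCo_sq, map_one]

theorem negCo_ne_one : (negCo : Co0) ≠ 1 := fun h => by
  have := congrArg (fun g : Co0 => ((g • pt8 none : leechLattice) : GolayPt → ℤ) none) h
  simp [negCo_smul, pt8, vec8] at this

theorem z_ne_one : S.z ≠ 1 := fun h => negCo_ne_one (S.inj (h.trans (map_one _).symm))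

theorem orderOf_z : orderOf S.z = 2 :=
  orderOf_eq_prime (by rw [pow_two]; exact S.z_sq) S.z_ne_one

theorem comm_z {c : G} (hc : c ∈ S.C) : S.z * c = c * S.z := S.comm_C hc negCo

theorem comm_z_f (α : Co0) : S.z * S.f α = S.f α * S.z := by
  rw [z, ← map_mul, ← map_mul, Subgroup.mem_center_iff.1 negCo_mem_center α]

/-- The centraliser has only one involution. -/
theorem eq_z {c : G} (hc : c ∈ S.C) (h2 : c * c = 1) : c = 1 ∨ c = S.z := by
  by_cases h1 : c = 1
  · exact Or.inl h1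
  right
  haveI : Fact (Nat.Prime 2) := ⟨Nat.prime_two⟩
  let c' : ↥S.C := ⟨c, hc⟩
  let z' : ↥S.C := ⟨S.z, S.z_mem_C⟩
  have hc2 : c' ^ 2 ^ 1 = 1 := Subtype.ext (by simp [c', pow_two, h2])
  have hz2 : z' ^ 2 ^ 1 = 1 := Subtype.ext (by simp [z', pow_two, S.z_sq])
  obtain ⟨R, hR⟩ := (isPGroup_zpowers hc2).exists_le_sylow
  haveI : (Subgroup.zpowers z').Normal := by
    have hz : z' ∈ Subgroup.center ↥S.C :=
      Subgroup.mem_center_iff.2 fun d => Subtype.ext (S.comm_z d.2).symm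
    exact ⟨fun n hn g => by
      have := Subgroup.mem_center_iff.1 ((Subgroup.zpowers_le.2 hz) hn) g
      rw [this, mul_inv_cancel_right]; exact hn⟩
  have hzR : z' ∈ (R : Subgroup ↥S.C) := by
    have hsup := R.is_maximal' (R.2.to_sup_of_normal_right (isPGroup_zpowers hz2)) le_sup_left
    exact hsup ▸ Subgroup.mem_sup_right (Subgroup.mem_zpowers z')
  haveI := S.cyc R
  have := eq_of_sq_of_cyclic (u := (⟨c', hR (Subgroup.mem_zpowers c')⟩ : ↥(R : Subgroup ↥S.C)))
    (v := ⟨z', hzR⟩) (Subtype.ext (Subtype.ext h2)) (Subtype.ext (Subtype.ext S.z_sq))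
    (fun e => h1 (congrArg (fun a : ↥(R : Subgroup ↥S.C) => (a.1.1 : G)) e))
    (fun e => S.z_ne_one (congrArg (fun a : ↥(R : Subgroup ↥S.C) => (a.1.1 : G)) e))
  exact congrArg (fun a : ↥(R : Subgroup ↥S.C) => (a.1.1 : G)) this

theorem perfect (S : Setup G) : commutator Co0 = ⊤ := by
  let φ : Co0 ≃* ↥S.A := (MonoidHom.ofInjective S.inj).trans (MulEquiv.subgroupCongr S.range_eq)
  haveI : Group.IsPerfect ↥S.A := S.std.1.1
  haveI : Group.IsPerfect Co0 :=
    Group.IsPerfect.ofSurjective (f := φ.symm.toMonoidHom) φ.symm.surjective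
  exact Group.IsPerfect.commutator_eq_top

/-- The normaliser is the product. -/
theorem exists_mul {n : G} (hn : n ∈ Subgroup.normalizer (S.A : Set G)) :
    ∃ α, ∃ c ∈ S.C, n = S.f α * c := by
  let φ : Co0 ≃* ↥S.A := (MonoidHom.ofInjective S.inj).trans (MulEquiv.subgroupCongr S.range_eq)
  let α : MulAut Co0 := (φ.trans (S.A.normalizerMonoidHom ⟨n, hn⟩)).trans φ.symm
  obtain ⟨g, hg⟩ := exists_conj_aut S.perfect α
  have hfg : ∀ x, n * S.f x * n⁻¹ = S.f g * S.f x * (S.f g)⁻¹ := by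
    intro x
    have e1 : φ (α x) = S.A.normalizerMonoidHom ⟨n, hn⟩ (φ x) := φ.apply_symm_apply _
    rw [hg x] at e1
    have e2 := congrArg Subtype.val e1
    rw [show ((φ (g * x * g⁻¹) : ↥S.A) : G) = S.f (g * x * g⁻¹) from rfl, map_mul, map_mul,
      map_inv] at e2
    exact e2.symm
  refine ⟨g, (S.f g)⁻¹ * n, ?_, by group⟩
  rw [Subgroup.mem_centralizer_iff]
  intro a ha
  obtain ⟨x, rfl⟩ := S.exists_eq ha
  calc S.f x * ((S.f g)⁻¹ * n)
      = (S.f g)⁻¹ * (S.f g * S.f x * (S.f g)⁻¹) * n := by group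
    _ = (S.f g)⁻¹ * n * S.f x := by rw [← hfg]; group

/-- The centraliser of the involution. -/
theorem mem_normalizer {g : G} (h : g * S.z = S.z * g) :
    g ∈ Subgroup.normalizer (S.A : Set G) := by
  by_contra hn
  rw [S.std.2.2.2] at hn
  have hodd := S.std.2.1.2 g hn
  have hz : S.z ∈ S.C ⊓ S.C.map (MulAut.conj g).toMonoidHom := by
    refine ⟨S.z_mem_C, S.z, S.z_mem_C, ?_⟩
    show g * S.z * g⁻¹ = S.z
    rw [h, mul_inv_cancel_right]
  have hd := Subgroup.card_dvd_of_le (Subgroup.zpowers_le.2 hz)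
  rw [Nat.card_zpowers, S.orderOf_z] at hd
  exact Nat.not_even_iff_odd.2 hodd ((even_iff_two_dvd).2 hd)

theorem exists_dec {g : G} (h : g * S.z = S.z * g) : ∃ α, ∃ c ∈ S.C, g = S.f α * c :=
  S.exists_mul (S.mem_normalizer h)

theorem pow_mul_eq {α : Co0} {c : G} (hc : c ∈ S.C) (n : ℕ) :
    (S.f α * c) ^ n = S.f (α ^ n) * c ^ n := by
  rw [Commute.mul_pow (S.comm_C hc α), map_pow]

theorem mem_conj {G' : Type*} [Group G'] {g a b : G'} (h : a * b = b * a) :
    g⁻¹ * a * g * (g⁻¹ * b * g) = g⁻¹ * b * g * (g⁻¹ * a * g) := by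
  calc g⁻¹ * a * g * (g⁻¹ * b * g) = g⁻¹ * (a * b) * g := by group
    _ = g⁻¹ * (b * a) * g := by rw [h]
    _ = _ := by group

/-- A conjugate of `z` with monomial component forbids elements of order 4 in the centraliser. -/
theorem no_four_aux {g c : G} {α : Co0} (hc : c ∈ S.C) (hg : g * S.z * g⁻¹ = S.f α * c)
    (hsq : α * α ∈ Subgroup.center Co0) (hnc : α ∉ Subgroup.center Co0) (hα : α ∈ crossStab)
    {d : G} (hd : d ∈ S.C) : d * d ≠ S.z := by
  intro hdz
  haveI : Fact (Nat.Prime 2) := ⟨Nat.prime_two⟩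
  set t := g * S.z * g⁻¹ with ht
  let B : Subgroup Co0 := signs ⊓ Subgroup.centralizer ({α} : Set Co0)
  have hBt : ∀ b ∈ B, S.f b * t = t * S.f b := by
    intro b hb
    rw [hg, ← mul_assoc, ← map_mul, Subgroup.mem_centralizer_singleton_iff.1 hb.2, map_mul,
      mul_assoc, S.comm_C hc b, mul_assoc]
  have hkz : ∀ b ∈ B, g⁻¹ * S.f b * g * S.z = S.z * (g⁻¹ * S.f b * g) := by
    intro b hb
    have h := mem_conj (g := g) (hBt b hb)
    have e : g⁻¹ * t * g = S.z := by rw [ht]; group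
    rwa [e] at h
  have hkn : ∀ b ∈ B, g⁻¹ * S.f b * g ∈ Subgroup.normalizer (S.C : Set G) := fun b hb =>
    S.std.2.2.2 ▸ S.mem_normalizer (hkz b hb)
  let κ : B →* Subgroup.normalizer (S.C : Set G) :=
    { toFun := fun b => ⟨g⁻¹ * S.f b.1 * g, hkn b.1 b.2⟩
      map_one' := Subtype.ext (by simp)
      map_mul' := fun a b => Subtype.ext (by
        show g⁻¹ * S.f (a.1 * b.1) * g = g⁻¹ * S.f a.1 * g * (g⁻¹ * S.f b.1 * g)
        rw [map_mul]; group) }
  let ψ : B →* MulAut ↥S.C := S.C.normalizerMonoidHom.comp κ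
  letI : MulAction B (Sylow 2 ↥S.C) := MulAction.compHom _ ψ
  have hBp : IsPGroup 2 B := fun b => ⟨1, Subtype.ext (by
    show b.1 ^ (2 ^ 1) = 1
    rw [pow_one, pow_two]; exact signs_sq b.2.1)⟩
  have hodd : ¬ 2 ∣ Nat.card (Sylow 2 ↥S.C) := not_dvd_card_sylow 2 ↥S.C
  obtain ⟨Q, hQ⟩ := hBp.nonempty_fixed_point_of_prime_not_dvd_card (Sylow 2 ↥S.C) hodd
  -- an element of order four in `Q`
  have hd4 : (⟨d, hd⟩ : ↥S.C) ^ 2 ^ 2 = 1 := Subtype.ext (by
    show d ^ (2 ^ 2) = 1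
    rw [show (2 : ℕ) ^ 2 = 2 * 2 from rfl, pow_mul, pow_two, pow_two, hdz, S.z_sq])
  obtain ⟨R, hR⟩ := (isPGroup_zpowers hd4).exists_le_sylow
  obtain ⟨h, hh⟩ := MulAction.exists_smul_eq ↥S.C R Q
  obtain ⟨d', hd'Q, hd'⟩ : ∃ d' : ↥S.C, d' ∈ (Q : Subgroup ↥S.C) ∧ (d' : G) * d' = S.z := by
    refine ⟨h * ⟨d, hd⟩ * h⁻¹, ?_, ?_⟩
    · rw [← hh, Sylow.coe_subgroup_smul]
      exact Subgroup.smul_mem_pointwise_smul _ _ _ (hR (Subgroup.mem_zpowers _))
    · show (h : G) * d * (h : G)⁻¹ * ((h : G) * d * (h : G)⁻¹) = S.z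
      calc _ = (h : G) * (d * d) * (h : G)⁻¹ := by group
        _ = S.z := by rw [hdz, ← S.comm_z h.2, mul_inv_cancel_right]
  haveI := S.cyc Q
  have hQc : ∀ p ∈ (Q : Subgroup ↥S.C), ∀ q ∈ (Q : Subgroup ↥S.C), p * q = q * p := fun p hp q hq =>
    congrArg Subtype.val ((IsCyclic.commGroup (α := ↥(Q : Subgroup ↥S.C))).mul_comm ⟨p, hp⟩ ⟨q, hq⟩)
  have hkd : ∀ b ∈ B, g⁻¹ * S.f b * g * d' = (d' : G) * (g⁻¹ * S.f b * g) := by
    intro b hb
    obtain ⟨η, e, he, hk⟩ := S.exists_dec (hkz b hb)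
    have hk2 : (S.f η * e) ^ 2 = 1 := by
      rw [← hk, pow_two]
      calc _ = g⁻¹ * S.f (b * b) * g := by rw [map_mul]; group
        _ = 1 := by rw [signs_sq hb.1, map_one]; group
    rw [S.pow_mul_eq he] at hk2
    have he4 : (⟨e, he⟩ : ↥S.C) ^ 2 ^ 2 = 1 := Subtype.ext (by
      show e ^ (2 ^ 2) = 1
      have h1 : S.f (η ^ 2) ∈ S.C := by
        rw [eq_inv_of_mul_eq_one_left hk2]; exact inv_mem (pow_mem he 2)
      have h2 : (S.f (η ^ 2)) ^ 2 = 1 := by
        rcases S.f_mem_C_iff.1 h1 with e1 | e1 <;> rw [e1, ← map_pow, pow_two]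
        · simp
        · rw [negCo_sq, map_one]
      rw [show (2 : ℕ) ^ 2 = 2 * 2 from rfl, pow_mul, eq_inv_of_mul_eq_one_right hk2, inv_pow, h2,
        inv_one])
    have hnorm : (⟨e, he⟩ : ↥S.C) ∈ Subgroup.normalizer ((Q : Subgroup ↥S.C) : Set ↥S.C) := by
      have hstep : ∀ q ∈ (Q : Subgroup ↥S.C),
          (⟨e, he⟩ : ↥S.C) * q * ⟨e, he⟩⁻¹ ∈ (Q : Subgroup ↥S.C) := by
        intro q hq
        have hfix : ψ ⟨b, hb⟩ • Q = Q := hQ ⟨b, hb⟩
        have hmem : ψ ⟨b, hb⟩ q ∈ ((ψ ⟨b, hb⟩ • Q : Sylow 2 ↥S.C) : Subgroup ↥S.C) :=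
          Subgroup.smul_mem_pointwise_smul q (ψ ⟨b, hb⟩) _ hq
        rw [hfix] at hmem
        convert hmem using 1
        refine Subtype.ext ?_
        show e * (q : G) * e⁻¹ = g⁻¹ * S.f b * g * q * (g⁻¹ * S.f b * g)⁻¹
        rw [hk]
        have := S.comm_C (mul_mem (mul_mem he q.2) (inv_mem he)) η
        calc e * (q : G) * e⁻¹ = e * (q : G) * e⁻¹ * S.f η * (S.f η)⁻¹ := by group
          _ = S.f η * (e * (q : G) * e⁻¹) * (S.f η)⁻¹ := by rw [← this]
          _ = _ := by group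
      exact Subgroup.mem_normalizer_fintype hstep
    have heQ : (⟨e, he⟩ : ↥S.C) ∈ (Q : Subgroup ↥S.C) := by
      have hsup := Q.is_maximal' ((isPGroup_zpowers he4).to_sup_of_normal_right' Q.2
        (Subgroup.zpowers_le.2 hnorm)) le_sup_right
      exact hsup ▸ Subgroup.mem_sup_left (Subgroup.mem_zpowers _)
    have hed : e * (d' : G) = (d' : G) * e := congrArg Subtype.val (hQc _ heQ _ hd'Q)
    rw [hk, mul_assoc, hed, ← mul_assoc, S.comm_C d'.2 η, mul_assoc]
  -- the square root of `t`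
  set y := g * (d' : G) * g⁻¹ with hy
  have hyy : y * y = t := by
    rw [hy, ht, ← hd']; group
  have hyb : ∀ b ∈ B, S.f b * y = y * S.f b := by
    intro b hb
    calc S.f b * y = g * (g⁻¹ * S.f b * g * d') * g⁻¹ := by rw [hy]; group
      _ = g * ((d' : G) * (g⁻¹ * S.f b * g)) * g⁻¹ := by rw [hkd b hb]
      _ = y * S.f b := by rw [hy]; group
  have hneg : negCo ∈ B := ⟨negCo_mem_signs, Subgroup.mem_centralizer_singleton_iff.2
    (Subgroup.mem_center_iff.1 negCo_mem_center α).symm⟩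
  obtain ⟨η, e, he, hye⟩ := S.exists_dec (hyb negCo hneg).symm
  have hη : ∀ b ∈ signs, b * α = α * b → b * η = η * b := by
    intro b hb hcomm
    have h := hyb b ⟨hb, Subgroup.mem_centralizer_singleton_iff.2 hcomm⟩
    rw [hye, mul_assoc, ← S.comm_C he b, ← mul_assoc, ← mul_assoc] at h
    refine S.inj ?_
    rw [map_mul, map_mul]
    exact mul_right_cancel h
  have hmem : S.f (α⁻¹ * (η * η)) ∈ S.C := by
    have h2 : S.f (η * η) * (e * e) = S.f α * c := by
      rw [← hg, ← hyy, hye, map_mul]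
      calc S.f η * S.f η * (e * e) = S.f η * (S.f η * e) * e := by group
        _ = S.f η * (e * S.f η) * e := by rw [S.comm_C he]
        _ = _ := by group
    have : S.f (α⁻¹ * (η * η)) = c * (e * e)⁻¹ := by
      rw [map_mul, map_inv]
      calc (S.f α)⁻¹ * S.f (η * η) = (S.f α)⁻¹ * (S.f (η * η) * (e * e)) * (e * e)⁻¹ := by group
        _ = _ := by rw [h2]; group
    rw [this]
    exact mul_mem hc (inv_mem (mul_mem he he))
  have hr := root_lemma hα hsq hnc hη
  rcases S.f_mem_C_iff.1 hmem with e1 | e1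
  · exact hr.1 (inv_mul_eq_one.1 e1).symm
  · refine hr.2 ?_
    rw [inv_mul_eq_iff_eq_mul] at e1
    rw [e1, Subgroup.mem_center_iff.1 negCo_mem_center α]

/-- A conjugate of `z` commuting with it forbids elements of order 4 in the centraliser. -/
theorem no_four {g : G} (hcomm : Commute S.z (g * S.z * g⁻¹)) (hne : g * S.z * g⁻¹ ≠ S.z)
    {d : G} (hd : d ∈ S.C) : d * d ≠ S.z := by
  obtain ⟨α, c, hc, ht⟩ := S.exists_dec (g := g * S.z * g⁻¹) hcomm.symm
  have ht2 : (S.f α * c) ^ 2 = 1 := by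
    rw [← ht, pow_two]
    calc _ = g * (S.z * S.z) * g⁻¹ := by group
      _ = 1 := by rw [S.z_sq]; group
  rw [S.pow_mul_eq hc] at ht2
  have hsq : α * α ∈ Subgroup.center Co0 := by
    have h1 : S.f (α ^ 2) ∈ S.C := by
      rw [eq_inv_of_mul_eq_one_left ht2]; exact inv_mem (pow_mem hc 2)
    rw [pow_two] at h1
    rcases S.f_mem_C_iff.1 h1 with e | e <;> rw [e]
    · exact one_mem _
    · exact negCo_mem_center
  have hnc : α ∉ Subgroup.center Co0 := by
    intro h
    have hmem : g * S.z * g⁻¹ ∈ S.C := by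
      rw [ht]; exact mul_mem (S.f_mem_C_iff.2 (center_cases h)) hc
    rcases S.eq_z hmem (by
      calc g * S.z * g⁻¹ * (g * S.z * g⁻¹) = g * (S.z * S.z) * g⁻¹ := by group
        _ = 1 := by rw [S.z_sq]; group) with e | e
    · exact S.z_ne_one (conj_eq_one_iff.1 e)
    · exact hne e
  obtain ⟨γ, hγ⟩ := exists_conj_of_pow (k := 2) (y := α) (by
    rw [show (2 : ℕ) ^ 2 = 2 * 2 from rfl, pow_mul, pow_two α, pow_two]
    rcases center_cases hsq with e | e <;> rw [e]
    · exact one_mul _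
    · exact negCo_sq)
  refine S.no_four_aux (g := S.f γ * g) (α := γ * α * γ⁻¹) hc ?_ ?_ ?_ hγ hd
  · calc S.f γ * g * S.z * (S.f γ * g)⁻¹ = S.f γ * (g * S.z * g⁻¹) * (S.f γ)⁻¹ := by group
      _ = S.f γ * (S.f α * c) * (S.f γ)⁻¹ := by rw [ht]
      _ = S.f γ * S.f α * (c * S.f γ⁻¹) := by rw [map_inv]; group
      _ = _ := by rw [← S.comm_C hc, map_mul, map_mul]; group
  · rw [show γ * α * γ⁻¹ * (γ * α * γ⁻¹) = γ * (α * α) * γ⁻¹ by group]
    exact (inferInstance : (Subgroup.center Co0).Normal).conj_mem _ hsq _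
  · intro h
    refine hnc ?_
    have := (inferInstance : (Subgroup.center Co0).Normal).conj_mem _ h γ⁻¹
    rwa [show γ⁻¹ * (γ * α * γ⁻¹) * γ⁻¹⁻¹ = α by group] at this

variable (h4 : ∀ d ∈ S.C, d * d ≠ S.z)

include h4 in
theorem two_power_C : ∀ (k : ℕ) {c : G}, c ∈ S.C → c ^ 2 ^ k = 1 → c = 1 ∨ c = S.z
  | 0, c, _, h => Or.inl (by simpa using h)
  | k + 1, c, hc, h => by
    rw [pow_succ', pow_mul] at h
    rcases two_power_C k (pow_mem hc 2) h with e | e
    · exact S.eq_z hc (by rw [← pow_two]; exact e)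
    · exact absurd (by rw [← pow_two]; exact e) (h4 c hc)

include h4 in
/-- 2-elements centralising `z` lie in the image. -/
theorem exists_preimage {x : G} (hx : x * S.z = S.z * x) {k : ℕ} (hk : x ^ 2 ^ k = 1) :
    ∃ α, S.f α = x := by
  obtain ⟨α, c, hc, rfl⟩ := S.exists_dec hx
  rw [S.pow_mul_eq hc] at hk
  have h1 : S.f (α ^ 2 ^ k) ∈ S.C := by
    rw [eq_inv_of_mul_eq_one_left hk]; exact inv_mem (pow_mem hc _)
  have h2 : c ^ 2 ^ (k + 1) = 1 := by
    rw [pow_succ, pow_mul, eq_inv_of_mul_eq_one_right hk, pow_two, ← mul_inv_rev, ← map_mul]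
    rcases S.f_mem_C_iff.1 h1 with e | e <;> rw [e]
    · simp
    · rw [negCo_sq, map_one, inv_one]
  rcases S.two_power_C h4 _ hc h2 with e | e
  · exact ⟨α, by rw [e, mul_one]⟩
  · exact ⟨α * negCo, by rw [e, z, map_mul]⟩

/-- Being conjugate to `z`. -/
def Fused (β : Co0) : Prop := ∃ g : G, g * S.z * g⁻¹ = S.f β

theorem fused_conj {β : Co0} (h : S.Fused β) (γ : Co0) : S.Fused (γ * β * γ⁻¹) := by
  obtain ⟨g, hg⟩ := h
  refine ⟨S.f γ * g, ?_⟩
  rw [map_mul, map_mul, map_inv, ← hg]; group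

theorem conj_assoc (g k : G) :
    g⁻¹ * k * S.z * (g⁻¹ * k)⁻¹ = g⁻¹ * (k * S.z * k⁻¹) * g := by group

theorem fused_weight {s t : Finset GolayPt} {hs : Golay.IsCodeSet s} (ht : Golay.IsCodeSet t)
    (h : S.Fused (monoS 1 (one_mem M24) s hs))
    (hw : (s.card = 8 ∧ t.card = 8) ∨ (s.card = 12 ∧ t.card = 12) ∨ (s.card = 16 ∧ t.card = 16)) :
    S.Fused (monoS 1 (one_mem M24) t ht) := by
  obtain ⟨x, hx⟩ := exists_conj_weight hs ht hw
  exact hx ▸ S.fused_conj h x

include h4 in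
theorem not_fused_sixteen {s : Finset GolayPt} {hs : Golay.IsCodeSet s} (hc : s.card = 16) :
    ¬ S.Fused (monoS 1 (one_mem M24) s hs) := by
  intro h
  obtain ⟨x, t, ht, htc, hx⟩ := exists_pow_eight_weight16
  obtain ⟨g, hg⟩ := S.fused_weight ht h (Or.inr (Or.inr ⟨hc, htc⟩))
  have hxz : g⁻¹ * S.f x * g * S.z = S.z * (g⁻¹ * S.f x * g) := by
    have e : g⁻¹ * S.f (monoS 1 (one_mem M24) t ht) * g = S.z := by rw [← hg]; group
    rw [← e]
    refine mem_conj ?_
    rw [← map_mul, ← map_mul, ← hx, ← pow_succ, ← pow_succ']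
  have h8 : (g⁻¹ * S.f x * g) ^ 8 = S.z := by
    have e := conj_pow (i := 8) (a := g⁻¹) (b := S.f x)
    rw [inv_inv, ← map_pow, hx, ← hg] at e
    rw [e]; group
  obtain ⟨y, hy⟩ := S.exists_preimage h4 hxz (k := 4) (by
    rw [show (2 : ℕ) ^ 4 = 8 * 2 from rfl, pow_mul, h8, pow_two, S.z_sq])
  refine pow_eight_ne y (S.inj ?_)
  rw [map_pow, hy, h8]; rfl

include h4 in
/-- Pairs: conjugating one sign change to `z` sends a commuting one to a sign change. -/
theorem transfer {s t : Finset GolayPt} (hs : Golay.IsCodeSet s) (ht : Golay.IsCodeSet t)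
    (hst : t ≠ s) (ht0 : t ≠ ∅) (h : S.Fused (monoS 1 (one_mem M24) s hs)) :
    ∃ (g : G) (c : Finset GolayPt) (hc : Golay.IsCodeSet c),
      (c.card = 8 ∨ c.card = 12 ∨ c.card = 16) ∧
      g * S.z * g⁻¹ = S.f (monoS 1 (one_mem M24) s hs) ∧
      g * S.f (monoS 1 (one_mem M24) c hc) * g⁻¹ = S.f (monoS 1 (one_mem M24) t ht) ∧
      g * S.f (monoS 1 (one_mem M24) cᶜ hc.compl) * g⁻¹ =
        S.f (monoS 1 (one_mem M24) (s ∆ t) (hs.symmDiff ht)) := by
  obtain ⟨g, hg⟩ := h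
  have hcomm : monoS 1 (one_mem M24) t ht * monoS 1 (one_mem M24) s hs =
      monoS 1 (one_mem M24) s hs * monoS 1 (one_mem M24) t ht := by
    rw [monoS_mul, monoS_mul]
    exact monoS_congr rfl (by rw [one_smul, one_smul, symmDiff_comm])
  have hxz : g⁻¹ * S.f (monoS 1 (one_mem M24) t ht) * g * S.z =
      S.z * (g⁻¹ * S.f (monoS 1 (one_mem M24) t ht) * g) := by
    have e : g⁻¹ * S.f (monoS 1 (one_mem M24) s hs) * g = S.z := by rw [← hg]; group
    rw [← e]
    exact mem_conj (by rw [← map_mul, ← map_mul, hcomm])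
  have hsq : monoS 1 (one_mem M24) t ht * monoS 1 (one_mem M24) t ht = 1 :=
    sq_eq_one_iff.2 ⟨one_mul _, one_smul _ _⟩
  have hx2 : (g⁻¹ * S.f (monoS 1 (one_mem M24) t ht) * g) ^ 2 ^ 1 = 1 := by
    rw [pow_one, pow_two]
    calc _ = g⁻¹ * S.f (monoS 1 (one_mem M24) t ht * monoS 1 (one_mem M24) t ht) * g := by
          rw [map_mul]; group
      _ = 1 := by rw [hsq, map_one]; group
  obtain ⟨β, hβ⟩ := S.exists_preimage h4 hxz hx2
  have hb : S.f (monoS 1 (one_mem M24) t ht) = g * S.f β * g⁻¹ := by rw [hβ]; group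
  obtain ⟨γ, c, hc, hγ, hw⟩ := exists_conj_signs (β := β) (S.inj (by
    rw [map_mul, map_one, hβ, ← pow_two]; simpa using hx2))
    (fun e => ht0 (monoS_eq_one (S.inj (show S.f (monoS 1 (one_mem M24) t ht) = S.f 1 by
      rw [hb, e, map_one]; group))).2)
    (fun e => hst (monoS_inj (S.inj (hb.trans (by rw [e]; exact hg)))).2)
  refine ⟨g * (S.f γ)⁻¹, c, hc, hw, ?_, ?_, ?_⟩
  · calc g * (S.f γ)⁻¹ * S.z * (g * (S.f γ)⁻¹)⁻¹
        = g * ((S.f γ)⁻¹ * (S.z * S.f γ)) * g⁻¹ := by group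
      _ = g * S.z * g⁻¹ := by rw [S.comm_z_f]; group
      _ = _ := hg
  · rw [← hγ, map_mul, map_mul, map_inv, hb]; group
  · have hcc : monoS 1 (one_mem M24) cᶜ hc.compl = negCo * monoS 1 (one_mem M24) c hc := by
      rw [← monoS_univ, monoS_mul]
      exact monoS_congr (one_mul _).symm (by rw [one_smul]; exact (top_symmDiff c).symm)
    have hst' : monoS 1 (one_mem M24) (s ∆ t) (hs.symmDiff ht) =
        monoS 1 (one_mem M24) s hs * monoS 1 (one_mem M24) t ht := by
      rw [monoS_mul]; exact monoS_congr (one_mul _).symm (by rw [one_smul])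
    rw [hcc, hst', ← hγ, map_mul, map_mul, map_mul, map_mul, map_inv, hb, ← hg]
    show g * (S.f γ)⁻¹ * (S.z * _) * _ = _
    rw [← mul_assoc S.z, ← mul_assoc S.z, S.comm_z_f]
    group

include h4 in
theorem not_fused_eight {s : Finset GolayPt} {hs : Golay.IsCodeSet s} (h8 : s.card = 8) :
    ¬ S.Fused (monoS 1 (one_mem M24) s hs) := by
  intro h
  obtain ⟨⟨ha, ha8⟩, ⟨hb, hb8⟩, hab⟩ := exists_octad_pair_data
  have hA := S.fused_weight ha h (Or.inl ⟨h8, ha8⟩)
  obtain ⟨g, c, hc, hw, hgz, hgc, hgcc⟩ := S.transfer h4 ha hb (fun e => by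
    rw [e, symmDiff_self] at hab; simp at hab) (fun e => by rw [e] at hb8; simp at hb8) hA
  have hfc : S.Fused (monoS 1 (one_mem M24) c hc) := by
    obtain ⟨k, hk⟩ := S.fused_weight hb h (Or.inl ⟨h8, hb8⟩)
    exact ⟨g⁻¹ * k, by rw [S.conj_assoc, hk, ← hgc]; group⟩
  have hfcc : S.Fused (monoS 1 (one_mem M24) cᶜ hc.compl) := by
    obtain ⟨k, hk⟩ := S.fused_weight (ha.symmDiff hb) h (Or.inl ⟨h8, hab⟩)
    exact ⟨g⁻¹ * k, by rw [S.conj_assoc, hk, ← hgcc]; group⟩
  have h12 : c.card = 12 := by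
    rcases hw with e | e | e
    · exact absurd hfcc (S.not_fused_sixteen h4
        (by rw [Finset.card_compl, Golay.card_golayPt, e]))
    · exact e
    · exact absurd hfc (S.not_fused_sixteen h4 e)
  -- the group of order `2^19`
  haveI := finite_co0
  obtain ⟨H, hH, hHfix⟩ := exists_pairGroup
  let P : Subgroup Co0 := (H.comap permPart).map crossStab.subtype
  have hP : Nat.card P = 128 * 4096 := by
    rw [Subgroup.card_map_of_injective crossStab.subtype_injective]
    have h1 := (H.comap permPart).card_mul_index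
    have h2 := H.card_mul_index
    rw [Subgroup.index_comap_of_surjective _ permPart_surjective] at h1
    have h3 := Subgroup.card_eq_card_quotient_mul_card_subgroup permPart.ker
    have hk : Nat.card permPart.ker = 4096 := by
      rw [← card_signs, signs, Subgroup.card_map_of_injective crossStab.subtype_injective]
    rw [Nat.card_congr (QuotientGroup.quotientKerEquivOfSurjective permPart
      permPart_surjective).toEquiv, hk] at h3
    have hi : 0 < H.index := Nat.pos_of_ne_zero Subgroup.index_ne_zero_of_finite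
    rw [h3, ← h2, hH] at h1
    exact Nat.eq_of_mul_eq_mul_right hi (by rw [h1]; ring)
  have hPcomm : ∀ p ∈ P, ∀ (u : Finset GolayPt) (hu : Golay.IsCodeSet u),
      (u = Golay.ptsOf octA ∨ u = Golay.ptsOf octB) →
        p * monoS 1 (one_mem M24) u hu = monoS 1 (one_mem M24) u hu * p := by
    rintro _ ⟨q, hq, rfl⟩ u hu hu'
    obtain ⟨σ, hσ, w, hw', e⟩ := exists_mono_of_mem_crossStab q.2
    have hqσ : (⟨σ, hσ⟩ : M24) ∈ H := by
      have : permPart q ∈ H := hq
      rwa [show q = ⟨_, monoCo_mem_crossStab σ hσ w hw'⟩ from Subtype.ext e, permPart_monoCo] at this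
    obtain ⟨σ', hσ', r, hr, e'⟩ := exists_monoS q.2
    obtain rfl : σ = σ' := (monoCo_injective (e.symm.trans e')).1
    have hfix := hHfix _ hqσ
    show (q : Co0) * _ = _ * (q : Co0)
    rw [e', monoS_mul, monoS_mul]
    refine monoS_congr (by simp) ?_
    rcases hu' with rfl | rfl
    · rw [hfix.1, one_smul, symmDiff_comm]
    · rw [hfix.2, one_smul, symmDiff_comm]
  have hPp : ∀ p ∈ P, p ^ 2 ^ 19 = 1 := fun p hp => by
    have h := congrArg Subtype.val (pow_card_eq_one' (x := (⟨p, hp⟩ : P)))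
    rw [hP] at h
    simpa using h
  have hex : ∀ p : P, ∃ α, S.f α = g⁻¹ * S.f p.1 * g := fun p =>
    S.exists_preimage h4 (k := 19) (by
      have e : g⁻¹ * S.f (monoS 1 (one_mem M24) (Golay.ptsOf octA) ha) * g = S.z := by
        rw [← hgz]; group
      rw [← e]
      exact mem_conj (by rw [← map_mul, ← map_mul, hPcomm _ p.2 _ ha (Or.inl rfl)]))
      (by
        have e := conj_pow (i := 2 ^ 19) (a := g⁻¹) (b := S.f p.1)
        rw [inv_inv, ← map_pow, hPp _ p.2, map_one] at e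
        rw [e]; group)
  choose Φ hΦ using hex
  have hΦmem : ∀ p, Φ p ∈ Subgroup.centralizer ({monoS 1 (one_mem M24) c hc} : Set Co0) := fun p => by
    rw [Subgroup.mem_centralizer_singleton_iff]
    refine S.inj ?_
    have e : g⁻¹ * S.f (monoS 1 (one_mem M24) (Golay.ptsOf octB) hb) * g =
        S.f (monoS 1 (one_mem M24) c hc) := by rw [← hgc]; group
    rw [map_mul, map_mul, hΦ, ← e]
    exact mem_conj (by rw [← map_mul, ← map_mul, hPcomm _ p.2 _ hb (Or.inr rfl)])
  let Ψ : P →* Subgroup.centralizer ({monoS 1 (one_mem M24) c hc} : Set Co0) :=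
    { toFun := fun p => ⟨Φ p, hΦmem p⟩
      map_one' := Subtype.ext (S.inj (by
        show S.f (Φ 1) = _
        rw [hΦ]; simp))
      map_mul' := fun p q => Subtype.ext (S.inj (by
        show S.f (Φ (p * q)) = S.f (Φ p * Φ q)
        rw [map_mul, hΦ, hΦ, hΦ, Subgroup.coe_mul, map_mul]; group)) }
  have hΨ : Function.Injective Ψ := fun p q e => Subtype.ext (S.inj (by
    have e' : S.f (Φ p) = S.f (Φ q) := congrArg S.f (congrArg Subtype.val e)
    rw [hΦ, hΦ] at e'
    exact mul_left_cancel (mul_right_cancel e')))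
  have hdvd := (Subgroup.card_dvd_of_injective Ψ hΨ).trans (card_centralizer_dvd hc h12)
  rw [hP] at hdvd
  norm_num at hdvd

include h4 in
theorem not_fused_twelve {s : Finset GolayPt} {hs : Golay.IsCodeSet s} (h12 : s.card = 12) :
    ¬ S.Fused (monoS 1 (one_mem M24) s hs) := by
  intro h
  obtain ⟨a, b, ha, hb, ha12, hb12, hab⟩ := exists_dodecad_pair
  obtain ⟨g, c, hc, hw, -, hgc, hgcc⟩ := S.transfer h4 ha hb (fun e => by
    rw [e, symmDiff_self] at hab; simp at hab) (fun e => by rw [e] at hb12; simp at hb12)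
    (S.fused_weight ha h (Or.inr (Or.inl ⟨h12, ha12⟩)))
  have hfc : S.Fused (monoS 1 (one_mem M24) c hc) := by
    obtain ⟨k, hk⟩ := S.fused_weight hb h (Or.inr (Or.inl ⟨h12, hb12⟩))
    exact ⟨g⁻¹ * k, by rw [S.conj_assoc, hk, ← hgc]; group⟩
  rcases hw with e | e | e
  · exact S.not_fused_eight h4 e hfc
  · obtain ⟨k, hk⟩ := S.fused_weight (hc.compl) h
      (Or.inr (Or.inl ⟨h12, by rw [Finset.card_compl, Golay.card_golayPt, e]⟩))
    refine S.not_fused_sixteen h4 (hs := ha.symmDiff hb) hab ⟨g * k, ?_⟩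
    rw [← hgcc, ← hk]; group
  · exact S.not_fused_sixteen h4 e hfc

theorem isolated : IsIsolatedInvolution S.z := by
  refine ⟨S.orderOf_z, fun g hcomm => ?_⟩
  by_contra hne
  have h4 : ∀ d ∈ S.C, d * d ≠ S.z := fun d hd => S.no_four hcomm hne hd
  have ht : (g * S.z * g⁻¹) ^ 2 ^ 1 = 1 := by
    rw [pow_one, pow_two]
    calc _ = g * (S.z * S.z) * g⁻¹ := by group
      _ = 1 := by rw [S.z_sq]; group
  obtain ⟨β, hβ⟩ := S.exists_preimage h4 hcomm.symm.eq ht
  obtain ⟨γ, c, hc, hγ, hw⟩ := exists_conj_signs (β := β)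
    (S.inj (by rw [map_mul, hβ, map_one, ← pow_two]; simpa using ht))
    (fun e => S.z_ne_one (conj_eq_one_iff.1 (by rw [← hβ, e, map_one])))
    (fun e => hne (by rw [← hβ, e]; rfl))
  have hf : S.Fused (monoS 1 (one_mem M24) c hc) := hγ ▸ S.fused_conj ⟨g, hβ.symm⟩ γ
  rcases hw with e | e | e
  · exact S.not_fused_eight h4 e hf
  · exact S.not_fused_twelve h4 e hf
  · exact S.not_fused_sixteen h4 e hf

/-- The subgroup is normal. -/
theorem normal (hO : oddCore G = ⊥) : S.A.Normal := by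
  refine Subgroup.normalizer_eq_top_iff.1 (eq_top_iff.2 fun g _ => S.mem_normalizer ?_)
  have h := ZStar.zStar G S.z S.isolated g
  rw [hO, Subgroup.mem_bot, mul_inv_eq_one, mul_inv_eq_iff_eq_mul] at h
  exact h.symm

end Setup

end Cfsg.Agent.Lib.Co0Standard
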